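import Mathlib
import Cfsg.Agent.H78.Pw.Base
import Cfsg.Agent.H843.Ore.Coset
import Cfsg.Agent.H6.ORE.Extra

/-!
# The coset lemma for products (S2465, helper323)

* `step`, `prod_coset` : if `⟨a, b⟩` fixes no non-trivial linear character of the sections of `N`, every
  element of `(a * b) N` is `(u a u⁻¹) * (w b w⁻¹)` with `u, w ∈ N`.
* `Pr.of_coset` : lifting from `H / N`.
* `ES.prod_step` : the same for an extraspecial `N = Q` with centre `⟨z⟩ ≤ Z(H)`; sharp condition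
  `|C_V(a)| |C_V(b)| |C_V(ab)| < |V|`, `V = Q / ⟨z⟩`.
-/

set_option autoImplicit false

namespace Cfsg.Agent.H323.Pw

open scoped commutatorElement
open Cfsg.Agent.H843.Ore
open Cfsg.Agent.H78.Pw

variable {G : Type*} [Group G]

/-- **One section** (not necessarily abelian). -/
theorem step {a b : G} {V W : Subgroup G} [hV : V.Normal] [hW : W.Normal] (hc : Cov a b V W) {x : G}
    (hx : x ∈ V) : ∃ u ∈ V, ∃ w ∈ V, ((u * a * u⁻¹) * (w * b * w⁻¹))⁻¹ * (a * b * x) ∈ W := by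
  have hy : b * x * b⁻¹ ∈ V := hV.conj_mem x hx b
  have hz : a⁻¹ * (a * b * x * (a * b)⁻¹) * a ∈ V := by
    have h1 := hV.conj_mem _ hy a
    have h2 := hV.conj_mem _ h1 a⁻¹
    have e : a⁻¹ * (a * (b * x * b⁻¹) * a⁻¹) * a⁻¹⁻¹ = a⁻¹ * (a * b * x * (a * b)⁻¹) * a := by group
    rwa [e] at h2
  obtain ⟨p, hp, q, hq, h⟩ := hc _ hz
  refine ⟨a * p * a⁻¹, hV.conj_mem p hp a, q, hq, ?_⟩
  have h3 := hW.conj_mem _ (W.inv_mem h) b⁻¹
  have e : ((a * p * a⁻¹ * a * (a * p * a⁻¹)⁻¹) * (q * b * q⁻¹))⁻¹ * (a * b * x) =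
      b⁻¹ * ((a⁻¹ * (a * b * x * (a * b)⁻¹) * a)⁻¹ * (⁅p, a⁆ * ⁅q, b⁆))⁻¹ * b⁻¹⁻¹ := by
    simp only [commutatorElement_def]
    group
  rw [e]
  exact h3

/-- **The coset lemma for products.** -/
theorem prod_coset {a b : G} (N : ℕ → Subgroup G) [hN : ∀ i, (N i).Normal] (k : ℕ)
    (hmono : ∀ i < k, N i ≤ N (i + 1))
    (hcent : ∀ i < k, ∀ x ∈ N (i + 1), ∀ y ∈ N k, ⁅x, y⁆ ∈ N i)
    (hcov : ∀ i < k, Cov a b (N (i + 1)) (N i)) {n : G} (hn : n ∈ N k) :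
    ∃ u ∈ N k, ∃ w ∈ N k, ((u * a * u⁻¹) * (w * b * w⁻¹))⁻¹ * (a * b * n) ∈ N 0 := by
  have hle : ∀ j ≤ k, ∀ i ≤ j, N i ≤ N j := by
    intro j
    induction j with
    | zero =>
      intro _ i hi
      rw [Nat.le_zero.1 hi]
    | succ j ih =>
      intro hj i hi
      rcases Nat.lt_or_ge i (j + 1) with h | h
      · exact le_trans (ih (by omega) i (by omega)) (hmono j (by omega))
      · rw [le_antisymm hi h]
  have main : ∀ d ≤ k, ∃ u ∈ N k, ∃ w ∈ N k,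
      ((u * a * u⁻¹) * (w * b * w⁻¹))⁻¹ * (a * b * n) ∈ N (k - d) := by
    intro d
    induction d with
    | zero =>
      intro _
      refine ⟨1, one_mem _, 1, one_mem _, ?_⟩
      have e : ((1 * a * 1⁻¹) * (1 * b * 1⁻¹))⁻¹ * (a * b * n) = n := by group
      rw [e, Nat.sub_zero]
      exact hn
    | succ d ih =>
      intro hd
      obtain ⟨u, hu, w, hw, h⟩ := ih (by omega)
      obtain ⟨i, hi⟩ : ∃ i, i = k - (d + 1) := ⟨_, rfl⟩
      have hik : i < k := by omega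
      have hi1 : k - d = i + 1 := by omega
      rw [hi1] at h
      rw [← hi]
      have hu' : a⁻¹ * u * a⁻¹⁻¹ * u⁻¹ ∈ N k := (N k).mul_mem ((hN k).conj_mem u hu _) ((N k).inv_mem hu)
      have hw' : b⁻¹ * w * b⁻¹⁻¹ * w⁻¹ ∈ N k := (N k).mul_mem ((hN k).conj_mem w hw _) ((N k).inv_mem hw)
      have hc : Cov (a * (a⁻¹ * u * a⁻¹⁻¹ * u⁻¹)) (b * (b⁻¹ * w * b⁻¹⁻¹ * w⁻¹)) (N (i + 1)) (N i) :=
        (hcov i hik).congr (fun x hx => hcent i hik x hx _ hu') (fun x hx => hcent i hik x hx _ hw')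
      have ea : a * (a⁻¹ * u * a⁻¹⁻¹ * u⁻¹) = u * a * u⁻¹ := by group
      have eb : b * (b⁻¹ * w * b⁻¹⁻¹ * w⁻¹) = w * b * w⁻¹ := by group
      rw [ea, eb] at hc
      obtain ⟨v, hv, t, ht, h2⟩ := step hc h
      have hv' := hle k le_rfl (i + 1) hik hv
      have ht' := hle k le_rfl (i + 1) hik ht
      refine ⟨v * u, (N k).mul_mem hv' hu, t * w, (N k).mul_mem ht' hw, ?_⟩
      have e : ((v * (u * a * u⁻¹) * v⁻¹) * (t * (w * b * w⁻¹) * t⁻¹))⁻¹ *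
          ((u * a * u⁻¹) * (w * b * w⁻¹) * (((u * a * u⁻¹) * (w * b * w⁻¹))⁻¹ * (a * b * n))) =
          ((v * u * a * (v * u)⁻¹) * (t * w * b * (t * w)⁻¹))⁻¹ * (a * b * n) := by group
      rwa [e] at h2
  have := main k le_rfl
  rwa [Nat.sub_self] at this

/-- lifting an element of order prime to `n` through a kernel which is a `π(n)`-group -/
theorem exists_lift {K : Type*} [Group K] (f : G →* K) {n : ℕ} {N : Subgroup G} (hN : f.ker = N)
    (hex : ∀ x ∈ N, ∃ m : ℕ, x ^ n ^ m = 1) {a : G} (ha : (orderOf (f a)).Coprime n) :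
    ∃ y ∈ N, (orderOf (a * y)).Coprime n := by
  have h1 : a ^ orderOf (f a) ∈ N := by
    rw [← hN, MonoidHom.mem_ker, map_pow, pow_orderOf_eq_one]
  obtain ⟨m, hm⟩ := hex _ h1
  -- `t ≡ 1 mod orderOf (f a)`, `t ≡ 0 mod n ^ m`
  have hc : (orderOf (f a)).Coprime (n ^ m) := ha.pow_right m
  obtain ⟨t, ht1, ht2⟩ := Nat.chineseRemainder hc 1 0
  refine ⟨a⁻¹ * a ^ t, ?_, ?_⟩
  · rw [← hN, MonoidHom.mem_ker, map_mul, map_inv, map_pow]
    have h2 : f a ^ t = f a := by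
      have h3 : f a ^ t = f a ^ 1 := pow_eq_pow_iff_modEq.2 ht1
      rw [h3, pow_one]
    rw [h2, inv_mul_cancel]
  · rw [mul_inv_cancel_left]
    have h4 : n ^ m ∣ t := (Nat.modEq_zero_iff_dvd).1 ht2
    obtain ⟨s, rfl⟩ := h4
    refine Nat.Coprime.of_dvd_left (orderOf_dvd_of_pow_eq_one (n := orderOf (f a)) ?_) ha
    rw [← pow_mul, mul_comm (n ^ m * s), ← mul_assoc, pow_mul, pow_mul, hm, one_pow]

/-- **Lifting products of two elements of order prime to `n`.**  `N k` is the kernel, `N 0 = ⊥`. -/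
theorem Pr.of_coset {K : Type*} [Group K] (f : G →* K) {n : ℕ} {a b g : G} (N : ℕ → Subgroup G)
    [hN : ∀ i, (N i).Normal] (k : ℕ) (hk : f.ker = N k) (h0 : N 0 = ⊥)
    (hmono : ∀ i < k, N i ≤ N (i + 1))
    (hcent : ∀ i < k, ∀ x ∈ N (i + 1), ∀ y ∈ N k, ⁅x, y⁆ ∈ N i)
    (hcov : ∀ i < k, Cov a b (N (i + 1)) (N i)) (hex : ∀ x ∈ N k, ∃ m : ℕ, x ^ n ^ m = 1)
    (hg : f g = f a * f b) (ha : (orderOf (f a)).Coprime n) (hb : (orderOf (f b)).Coprime n) : Pr n g := by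
  obtain ⟨y, hy, hay⟩ := exists_lift f hk hex ha
  obtain ⟨t, ht, hbt⟩ := exists_lift f hk hex hb
  have hcov' : ∀ i < k, Cov (a * y) (b * t) (N (i + 1)) (N i) := fun i hi =>
    (hcov i hi).congr (fun x hx => hcent i hi x hx y hy) (fun x hx => hcent i hi x hx t ht)
  have hm : (a * y * (b * t))⁻¹ * g ∈ N k := by
    rw [← hk, MonoidHom.mem_ker]
    have h1 : f y = 1 := by rw [← MonoidHom.mem_ker, hk]; exact hy
    have h2 : f t = 1 := by rw [← MonoidHom.mem_ker, hk]; exact ht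
    rw [map_mul, map_inv, map_mul, map_mul, map_mul, h1, h2, hg, mul_one, mul_one, inv_mul_cancel]
  obtain ⟨u, -, w, -, h⟩ := prod_coset N k hmono hcent hcov' hm
  rw [h0, Subgroup.mem_bot, inv_mul_eq_one, mul_inv_cancel_left] at h
  refine ⟨u * (a * y) * u⁻¹, w * (b * t) * w⁻¹, h.symm, ?_, ?_⟩
  · rw [show u * (a * y) * u⁻¹ = MulAut.conj u (a * y) from rfl, MulEquiv.orderOf_eq]; exact hay
  · rw [show w * (b * t) * w⁻¹ = MulAut.conj w (b * t) from rfl, MulEquiv.orderOf_eq]; exact hbt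

/-! ### the extraspecial case -/

open Module

section Extra

open Cfsg.Agent.H6.ORE

/-- the linear algebra behind the extraspecial case -/
theorem rank_lemma {V : Type*} [AddCommGroup V] [Module (ZMod 2) V] [FiniteDimensional (ZMod 2) V]
    (ω : LinearMap.BilinForm (ZMod 2) V) (hnd : ω.Nondegenerate)
    (α β γ : V →ₗ[ZMod 2] V) (e : ∀ x, γ x = α (β x))
    (hφ : ∀ w, ∃ r₁ r₂, r₁ + α r₁ + (α r₂ + γ r₂) = w)
    (hB : ∀ q₁ q₂ r₁ r₂, q₁ + α q₁ + (α q₂ + γ q₂) = 0 → r₁ + α r₁ + (α r₂ + γ r₂) = 0 →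
      ω (r₁ + r₂) (q₂ + β q₂) = 0) :
    finrank (ZMod 2) V ≤ finrank (ZMod 2) (LinearMap.ker (α + LinearMap.id)) +
      finrank (ZMod 2) (LinearMap.ker (β + LinearMap.id)) +
      finrank (ZMod 2) (LinearMap.ker (γ + LinearMap.id)) := by
  classical
  have two : ∀ v : V, v + v = 0 := by
    intro v
    have : (2 : ZMod 2) • v = 0 := by
      rw [show (2 : ZMod 2) = 0 from rfl, zero_smul]
    rwa [two_smul] at this
  have cancel : ∀ {u v : V}, u + v = 0 → u = v := by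
    intro u v h
    have := congrArg (fun t => t + v) h
    simpa [add_assoc, two] using this
  let φ : V × V →ₗ[ZMod 2] V :=
    (LinearMap.id + α).comp (LinearMap.fst _ V V) + (α + γ).comp (LinearMap.snd _ V V)
  have hφa : ∀ r : V × V, φ r = r.1 + α r.1 + (α r.2 + γ r.2) := fun r => rfl
  have hsurj : Function.Surjective φ := by
    intro w
    obtain ⟨r₁, r₂, h⟩ := hφ w
    exact ⟨(r₁, r₂), h⟩
  have hK : finrank (ZMod 2) (LinearMap.ker φ) = finrank (ZMod 2) V := by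
    have h2 := LinearMap.finrank_range_add_finrank_ker φ
    rw [LinearMap.range_eq_top.2 hsurj, finrank_top, Module.finrank_prod] at h2
    omega
  -- the two maps on the kernel
  let s : LinearMap.ker φ →ₗ[ZMod 2] V :=
    (LinearMap.fst _ V V + LinearMap.snd _ V V).comp (LinearMap.ker φ).subtype
  let t : LinearMap.ker φ →ₗ[ZMod 2] V :=
    ((β + LinearMap.id).comp (LinearMap.snd _ V V)).comp (LinearMap.ker φ).subtype
  have hs : ∀ r : LinearMap.ker φ, s r = r.1.1 + r.1.2 := fun r => rfl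
  have ht : ∀ r : LinearMap.ker φ, t r = β r.1.2 + r.1.2 := fun r => rfl
  have hrs := LinearMap.finrank_range_add_finrank_ker s
  have hrt := LinearMap.finrank_range_add_finrank_ker t
  rw [hK] at hrs hrt
  -- kernels
  have hks : finrank (ZMod 2) (LinearMap.ker s) ≤ finrank (ZMod 2) (LinearMap.ker (γ + LinearMap.id)) := by
    have hmem : ∀ r : LinearMap.ker s, r.1.1.1 ∈ LinearMap.ker (γ + LinearMap.id) := by
      rintro ⟨⟨⟨x, y⟩, hr⟩, hr2⟩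
      have h1 : x + y = 0 := hr2
      have h2 : x = y := cancel h1
      subst h2
      rw [LinearMap.mem_ker, hφa] at hr
      show γ x + x = 0
      have e3 : x + α x + (α x + γ x) = (α x + α x) + (γ x + x) := by abel
      rw [e3, two, zero_add] at hr
      exact hr
    let g : LinearMap.ker s →ₗ[ZMod 2] LinearMap.ker (γ + LinearMap.id) :=
      LinearMap.codRestrict _ ((LinearMap.fst _ V V).comp
        ((LinearMap.ker φ).subtype.comp (LinearMap.ker s).subtype)) hmem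
    refine LinearMap.finrank_le_finrank_of_injective (f := g) ?_
    rintro ⟨⟨⟨x, y⟩, hr⟩, hr2⟩ ⟨⟨⟨x', y'⟩, hr'⟩, hr2'⟩ hg
    have h0 : x = x' := congrArg Subtype.val hg
    have h1 : x = y := cancel hr2
    have h1' : x' = y' := cancel hr2'
    subst h0 h1 h1'
    rfl
  have hkt : finrank (ZMod 2) (LinearMap.ker t) ≤ finrank (ZMod 2) (LinearMap.ker (α + LinearMap.id)) +
      finrank (ZMod 2) (LinearMap.ker (β + LinearMap.id)) := by
    have hmem1 : ∀ r : LinearMap.ker t, r.1.1.1 ∈ LinearMap.ker (α + LinearMap.id) := by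
      rintro ⟨⟨⟨x, y⟩, hr⟩, hr2⟩
      have h1 : β y + y = 0 := hr2
      have h2 : β y = y := cancel h1
      rw [LinearMap.mem_ker, hφa] at hr
      show α x + x = 0
      have h3 : γ y = α y := by rw [e, h2]
      have e3 : x + α x + (α y + γ y) = α x + x := by
        show x + α x + (α y + γ y) = α x + x
        rw [h3, two, add_zero, add_comm]
      rw [← e3]
      exact hr
    have hmem2 : ∀ r : LinearMap.ker t, r.1.1.2 ∈ LinearMap.ker (β + LinearMap.id) := by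
      rintro ⟨⟨⟨x, y⟩, hr⟩, hr2⟩
      exact hr2
    let g : LinearMap.ker t →ₗ[ZMod 2] LinearMap.ker (α + LinearMap.id) × LinearMap.ker (β + LinearMap.id) :=
      LinearMap.prod
        (LinearMap.codRestrict _ ((LinearMap.fst _ V V).comp
          ((LinearMap.ker φ).subtype.comp (LinearMap.ker t).subtype)) hmem1)
        (LinearMap.codRestrict _ ((LinearMap.snd _ V V).comp
          ((LinearMap.ker φ).subtype.comp (LinearMap.ker t).subtype)) hmem2)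
    rw [← Module.finrank_prod]
    refine LinearMap.finrank_le_finrank_of_injective (f := g) ?_
    rintro ⟨⟨⟨x, y⟩, hr⟩, hr2⟩ ⟨⟨⟨x', y'⟩, hr'⟩, hr2'⟩ hg
    have h0 : x = x' := congrArg (fun p => (p.1 : V)) hg
    have h1 : y = y' := congrArg (fun p => (p.2 : V)) hg
    subst h0 h1
    rfl
  -- orthogonality
  have horth : (LinearMap.range s).map (ω : V →ₗ[ZMod 2] Dual (ZMod 2) V) ≤
      (LinearMap.range t).dualAnnihilator := by
    rintro _ ⟨_, ⟨r, rfl⟩, rfl⟩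
    rw [Submodule.mem_dualAnnihilator]
    rintro _ ⟨q, rfl⟩
    have h1 := hB q.1.1 q.1.2 r.1.1 r.1.2 q.2 r.2
    rw [hs, ht, add_comm (β _)]
    exact h1
  have hωinj : Function.Injective (ω : V →ₗ[ZMod 2] Dual (ZMod 2) V) := by
    intro u v huv
    have h3 : ∀ w, ω (u - v) w = 0 := by
      intro w
      have := LinearMap.congr_fun huv w
      rw [map_sub, LinearMap.sub_apply]
      exact sub_eq_zero.2 this
    exact sub_eq_zero.1 (hnd.1 _ h3)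
  have h1 := Submodule.finrank_mono horth
  rw [← (Submodule.equivMapOfInjective (ω : V →ₗ[ZMod 2] Dual (ZMod 2) V) hωinj (LinearMap.range s)).finrank_eq] at h1
  have h1' : finrank (ZMod 2) (LinearMap.range s) ≤
      finrank (ZMod 2) ((LinearMap.range t).dualAnnihilator : Submodule (ZMod 2) (Dual (ZMod 2) V)) := h1
  have h2 : finrank (ZMod 2) (LinearMap.range t) +
      finrank (ZMod 2) ((LinearMap.range t).dualAnnihilator : Submodule (ZMod 2) (Dual (ZMod 2) V)) =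
      finrank (ZMod 2) V := Subspace.finrank_add_finrank_dualAnnihilator_eq (LinearMap.range t)
  clear h1
  omega

variable {H : Type*} [Group H] {Q : Subgroup H} {z : H}

/-- the elements of `Q` fixed by `a` modulo `⟨z⟩` -/
def FixZ (Q : Subgroup H) (z a : H) : Type _ := {x : Q // a * x * a⁻¹ = x ∨ a * x * a⁻¹ = x * z}

theorem fpz_cov (h : ES Q z) {a b : H} (hfp : FPz Q z a b) : Cov a b Q (Subgroup.zpowers z) := by
  intro x hx
  obtain ⟨u, hu, v, hv, ζ, hζ, e⟩ := hfp x hx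
  refine ⟨v, hv, u, hu, ?_⟩
  rw [h.mem_zpowers]
  have e1 : u * (b * u * b⁻¹)⁻¹ = ⁅u, b⁆ := by rw [commutatorElement_def]; group
  have e2 : v * (a * v * a⁻¹)⁻¹ = ⁅v, a⁆ := by rw [commutatorElement_def]; group
  have m1 : ⁅u, b⁆ ∈ Q := by rw [← e1]; exact Q.mul_mem hu (Q.inv_mem (h.conj_mem hu b))
  have m2 : ⁅v, a⁆ ∈ Q := by rw [← e2]; exact Q.mul_mem hv (Q.inv_mem (h.conj_mem hv a))
  rw [e1, e2] at e
  have e3 : ⁅v, a⁆ * ⁅u, b⁆ = ⁅u, b⁆ * ⁅v, a⁆ ∨ ⁅v, a⁆ * ⁅u, b⁆ = ⁅u, b⁆ * ⁅v, a⁆ * z := h.comm _ m2 _ m1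
  have e4 : x⁻¹ * (⁅u, b⁆ * ⁅v, a⁆) = ζ := by
    rw [e, mul_inv_rev, mul_assoc, inv_mul_cancel, mul_one, h.zi hζ]
  rcases e3 with e3 | e3
  · rw [e3, e4]; exact hζ
  · rw [e3, ← mul_assoc, e4]
    exact h.zz hζ (Or.inr rfl)

/-- **The extraspecial coset lemma for products.** -/
theorem ES.prod_step (h : ES Q z) [Finite Q] {a b x : H} (hfp : FPz Q z a b) (hx : x ∈ Q)
    (hlt : Nat.card (FixZ Q z a) * Nat.card (FixZ Q z b) * Nat.card (FixZ Q z (a * b)) < 4 * Nat.card Q) :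
    ∃ u ∈ Q, ∃ w ∈ Q, (u * a * u⁻¹) * (w * b * w⁻¹) = a * b * x := by
  classical
  have hn := h.normal
  have hzn := h.normal_zpowers
  obtain ⟨u₀, hu₀, w₀, hw₀, h0⟩ := step (fpz_cov h hfp) hx
  rw [h.mem_zpowers] at h0
  rcases h0 with h0 | h0
  · exact ⟨u₀, hu₀, w₀, hw₀, inv_mul_eq_one.1 h0⟩
  by_contra hno
  push Not at hno
  obtain ⟨a₁, ha₁⟩ : ∃ a₁, a₁ = u₀ * a * u₀⁻¹ := ⟨_, rfl⟩
  obtain ⟨b₁, hb₁⟩ : ∃ b₁, b₁ = w₀ * b * w₀⁻¹ := ⟨_, rfl⟩
  rw [← ha₁, ← hb₁] at h0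
  have hc : a₁ * b₁ * z = a * b * x := by rw [← h0]; group
  -- the function Φ
  let Φ : Q → Q → H := fun r₁ r₂ => (r₁ * (a₁ * r₁ * a₁⁻¹)⁻¹) * ((a₁ * r₂ * a₁⁻¹) * ((a₁ * b₁) * r₂ * (a₁ * b₁)⁻¹)⁻¹)
  have hΦ : ∀ r₁ r₂ : Q, (r₁ * a₁ * (r₁ : H)⁻¹) * (r₂ * b₁ * (r₂ : H)⁻¹) = Φ r₁ r₂ * (a₁ * b₁) := by
    intro r₁ r₂
    show _ = (r₁ * (a₁ * r₁ * a₁⁻¹)⁻¹) * ((a₁ * r₂ * a₁⁻¹) * ((a₁ * b₁) * r₂ * (a₁ * b₁)⁻¹)⁻¹) * (a₁ * b₁)
    group
  have hΦ1 : ∀ r₁ r₂ : Q, (Φ r₁ r₂ = 1 ∨ Φ r₁ r₂ = z) → Φ r₁ r₂ = 1 := by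
    intro r₁ r₂ h'
    rcases h' with h' | h'
    · exact h'
    · exfalso
      refine hno (r₁ * u₀) (Q.mul_mem r₁.2 hu₀) (r₂ * w₀) (Q.mul_mem r₂.2 hw₀) ?_
      have e1 : (r₁ : H) * u₀ * a * ((r₁ : H) * u₀)⁻¹ = r₁ * a₁ * (r₁ : H)⁻¹ := by rw [ha₁]; group
      have e2 : (r₂ : H) * w₀ * b * ((r₂ : H) * w₀)⁻¹ = r₂ * b₁ * (r₂ : H)⁻¹ := by rw [hb₁]; group
      rw [e1, e2, hΦ, h', ← hc, h.central]
  obtain ⟨D⟩ := h.exists_vdata
  let _ := D.acg
  let _ := D.mod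
  have hfin := D.fin
  have : FiniteDimensional (ZMod 2) D.V := Module.Finite.of_finite
  let K : H → Q → Q := fun g x => ⟨g * x * g⁻¹, h.conj_mem x.2 g⟩
  have hL : ∀ g x, D.L g (D.cls x) = D.cls (K g x) := fun g x => D.L_cls g x _ rfl
  have c2 : ∀ c : ZMod 2, c = 0 ∨ c = 1 := by decide
  have ceq : ∀ s t : ZMod 2, (s = 0 ↔ t = 0) → s = t := by decide
  have hs : ∀ x y, D.ω x y = D.ω y x := by
    intro u v
    obtain ⟨x, rfl⟩ := D.surj u
    obtain ⟨y, rfl⟩ := D.surj v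
    apply ceq
    rw [D.ω_cls, D.ω_cls]
    exact eq_comm
  have h00 : D.cls 1 = 0 := by
    have := D.cls_mul 1 1
    rw [mul_one] at this
    have h2 : D.cls 1 + 0 = D.cls 1 + D.cls 1 := by rw [add_zero]; exact this
    exact (add_left_cancel h2).symm
  have hnd : D.ω.Nondegenerate := by
    have key : ∀ u, (∀ v, D.ω u v = 0) → u = 0 := by
      intro u hu
      obtain ⟨x, rfl⟩ := D.surj u
      have h1 := h.nd x x.2 (fun y hy => by
        have := hu (D.cls ⟨y, hy⟩)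
        rwa [D.ω_cls] at this)
      rw [← h00, eq_comm, D.cls_eq]
      simpa using h1
    refine ⟨key, fun v hv => key v (fun u => by rw [hs]; exact hv u)⟩
  have hinv : ∀ x : Q, D.cls x⁻¹ = D.cls x := by
    intro x
    rw [D.cls_eq]
    rcases h.pow x x.2 with e' | e'
    · left
      exact (inv_eq_of_mul_eq_one_right e').symm
    · right
      have : (x : H)⁻¹ * x * x = (x : H)⁻¹ * z := by rw [mul_assoc, e']
      simpa using this
  have hLm : ∀ g k l, (∀ x : H, g * (k * x * k⁻¹) * g⁻¹ = l * x * l⁻¹) →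
      ∀ v, D.L g (D.L k v) = D.L l v := by
    intro g k l hk v
    obtain ⟨x, rfl⟩ := D.surj v
    rw [hL, hL, hL]
    congr 1
    exact Subtype.ext (hk x)
  -- elements of `Q` act trivially
  have hLQ : ∀ y ∈ Q, ∀ v, D.L y v = v := by
    intro y hy v
    obtain ⟨x, rfl⟩ := D.surj v
    rw [hL, eq_comm, D.cls_eq]
    obtain ⟨ζ, hζ, e1⟩ := h.conj_eq hy x.2
    show y * x * y⁻¹ = x ∨ y * x * y⁻¹ = x * z
    rw [e1]
    rcases hζ with rfl | rfl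
    · left; rw [mul_one]
    · right; rfl
  have hsum : ∀ r₁ r₂ : Q, ∀ h' : Φ r₁ r₂ ∈ Q,
      D.cls ⟨Φ r₁ r₂, h'⟩ = D.cls r₁ + D.L a₁ (D.cls r₁)
        + (D.L a₁ (D.cls r₂) + D.L (a₁ * b₁) (D.cls r₂)) := by
    intro r₁ r₂ h'
    have e1 : (⟨Φ r₁ r₂, h'⟩ : Q) = (r₁ * (K a₁ r₁)⁻¹) * (K a₁ r₂ * (K (a₁ * b₁) r₂)⁻¹) := Subtype.ext rfl
    rw [e1, D.cls_mul, D.cls_mul, D.cls_mul, hinv, hinv, hL, hL, hL]
  have hmem : ∀ r₁ r₂ : Q, Φ r₁ r₂ ∈ Q := by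
    intro r₁ r₂
    exact ((r₁ * (K a₁ r₁)⁻¹) * (K a₁ r₂ * (K (a₁ * b₁) r₂)⁻¹) : Q).2
  have hone : ∀ r₁ r₂ : Q, D.cls r₁ + D.L a₁ (D.cls r₁)
        + (D.L a₁ (D.cls r₂) + D.L (a₁ * b₁) (D.cls r₂)) = 0 → Φ r₁ r₂ = 1 := by
    intro r₁ r₂ h0
    apply hΦ1
    rw [← hsum r₁ r₂ (hmem r₁ r₂)] at h0
    rw [← h00, eq_comm, D.cls_eq] at h0
    simpa using h0
  -- surjectivity
  have hsur : ∀ w, ∃ r₁ r₂, r₁ + D.L a₁ r₁ + (D.L a₁ r₂ + D.L (a₁ * b₁) r₂) = w := by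
    intro w
    obtain ⟨y, rfl⟩ := D.surj w
    -- apply `step` with `a b x'` where `a b x' = y * (a₁ b₁)`
    have hx' : (a * b)⁻¹ * (y * (a₁ * b₁)) ∈ Q := by
      have e1 : (a * b)⁻¹ * (y * (a₁ * b₁)) = ((a * b)⁻¹ * y * (a * b)⁻¹⁻¹) * (x * z⁻¹) := by
        have : a₁ * b₁ = a * b * x * z⁻¹ := by rw [← hc]; group
        rw [this]; group
      rw [e1]
      exact Q.mul_mem (h.conj_mem y.2 _) (Q.mul_mem hx (Q.inv_mem h.mem))
    obtain ⟨p₁, hp₁, p₂, hp₂, e⟩ := step (fpz_cov h hfp) hx'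
    rw [h.mem_zpowers, mul_inv_cancel_left] at e
    obtain ⟨q₁, hq₁⟩ : ∃ q₁ : Q, (q₁ : H) = p₁ * u₀⁻¹ := ⟨⟨_, Q.mul_mem hp₁ (Q.inv_mem hu₀)⟩, rfl⟩
    obtain ⟨q₂, hq₂⟩ : ∃ q₂ : Q, (q₂ : H) = p₂ * w₀⁻¹ := ⟨⟨_, Q.mul_mem hp₂ (Q.inv_mem hw₀)⟩, rfl⟩
    refine ⟨D.cls q₁, D.cls q₂, ?_⟩
    rw [← hsum q₁ q₂ (hmem _ _)]
    have e1 : (q₁ * a₁ * (q₁ : H)⁻¹) * (q₂ * b₁ * (q₂ : H)⁻¹) = (p₁ * a * p₁⁻¹) * (p₂ * b * p₂⁻¹) := by
      rw [hq₁, hq₂, ha₁, hb₁]; group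
    rw [← e1, hΦ] at e
    rw [D.cls_eq]
    show (y : H) = Φ q₁ q₂ ∨ (y : H) = Φ q₁ q₂ * z
    rcases e with e | e
    · left
      exact (mul_right_cancel (inv_mul_eq_one.1 e)).symm
    · right
      have e2 : (y : H) * (a₁ * b₁) = Φ q₁ q₂ * (a₁ * b₁) * z := by rw [← e]; group
      have e3 : (y : H) * (a₁ * b₁) = Φ q₁ q₂ * z * (a₁ * b₁) := by
        rw [e2, mul_assoc (Φ q₁ q₂), h.central, ← mul_assoc]
      exact mul_right_cancel e3
  have hB : ∀ q₁ q₂ r₁ r₂ : D.V, q₁ + D.L a₁ q₁ + (D.L a₁ q₂ + D.L (a₁ * b₁) q₂) = 0 →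
      r₁ + D.L a₁ r₁ + (D.L a₁ r₂ + D.L (a₁ * b₁) r₂) = 0 → D.ω (r₁ + r₂) (q₂ + D.L b₁ q₂) = 0 := by
    intro v₁ v₂ u₁ u₂ hv hu
    obtain ⟨r₁, rfl⟩ := D.surj u₁
    obtain ⟨r₂, rfl⟩ := D.surj u₂
    obtain ⟨q₁, rfl⟩ := D.surj v₁
    obtain ⟨q₂, rfl⟩ := D.surj v₂
    have o1 := hone r₁ r₂ hu
    have o2 := hone q₁ q₂ hv
    have o3 : Φ (r₁ * q₁) (r₂ * q₂) = 1 := by
      apply hone
      rw [D.cls_mul, D.cls_mul]
      simp only [map_add]
      have : (D.cls r₁ + D.cls q₁) + (D.L a₁ (D.cls r₁) + D.L a₁ (D.cls q₁))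
          + (D.L a₁ (D.cls r₂) + D.L a₁ (D.cls q₂) + (D.L (a₁ * b₁) (D.cls r₂) + D.L (a₁ * b₁) (D.cls q₂)))
          = (D.cls r₁ + D.L a₁ (D.cls r₁) + (D.L a₁ (D.cls r₂) + D.L (a₁ * b₁) (D.cls r₂)))
          + (D.cls q₁ + D.L a₁ (D.cls q₁) + (D.L a₁ (D.cls q₂) + D.L (a₁ * b₁) (D.cls q₂))) := by abel
      rw [this, hu, hv, add_zero]
    have e1 : D.cls r₁ + D.cls r₂ = D.cls (r₁⁻¹ * r₂) := by rw [D.cls_mul, hinv]
    have e2 : D.cls q₂ + D.L b₁ (D.cls q₂) = D.cls (q₂ * (K b₁ q₂)⁻¹) := by rw [D.cls_mul, hinv, hL]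
    rw [e1, e2, D.ω_cls]
    -- the group identity
    obtain ⟨r, hr⟩ : ∃ t, t = (r₁ : H) := ⟨_, rfl⟩
    obtain ⟨r', hr'⟩ : ∃ t, t = (r₂ : H) := ⟨_, rfl⟩
    obtain ⟨q, hq⟩ : ∃ t, t = (q₁ : H) := ⟨_, rfl⟩
    obtain ⟨q', hq'⟩ : ∃ t, t = (q₂ : H) := ⟨_, rfl⟩
    have p1 : (r * (a₁ * r * a₁⁻¹)⁻¹) * ((a₁ * r' * a₁⁻¹) * ((a₁ * b₁) * r' * (a₁ * b₁)⁻¹)⁻¹) = 1 := by
      rw [hr, hr']; exact o1
    have p2 : (q * (a₁ * q * a₁⁻¹)⁻¹) * ((a₁ * q' * a₁⁻¹) * ((a₁ * b₁) * q' * (a₁ * b₁)⁻¹)⁻¹) = 1 := by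
      rw [hq, hq']; exact o2
    have p3 : ((r * q) * (a₁ * (r * q) * a₁⁻¹)⁻¹) *
        ((a₁ * (r' * q') * a₁⁻¹) * ((a₁ * b₁) * (r' * q') * (a₁ * b₁)⁻¹)⁻¹) = 1 := by
      rw [hr, hr', hq, hq']
      have := o3
      change ((r₁ * q₁ : Q) : H) * (a₁ * ((r₁ * q₁ : Q) : H) * a₁⁻¹)⁻¹ *
        ((a₁ * ((r₂ * q₂ : Q) : H) * a₁⁻¹) * ((a₁ * b₁) * ((r₂ * q₂ : Q) : H) * (a₁ * b₁)⁻¹)⁻¹) = 1 at this
      rw [Subgroup.coe_mul, Subgroup.coe_mul] at this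
      exact this
    -- A = [q, a₁], C = [q', b₁]
    have k1 : q * (a₁ * q * a₁⁻¹)⁻¹ = (a₁ * (q' * (b₁ * q' * b₁⁻¹)⁻¹) * a₁⁻¹)⁻¹ := by
      rw [eq_inv_iff_mul_eq_one]
      rw [← p2]; group
    have k2 : r * (a₁ * r * a₁⁻¹)⁻¹ = (a₁ * (r' * (b₁ * r' * b₁⁻¹)⁻¹) * a₁⁻¹)⁻¹ := by
      rw [eq_inv_iff_mul_eq_one]
      rw [← p1]; group
    obtain ⟨C, hC⟩ : ∃ t, t = q' * (b₁ * q' * b₁⁻¹)⁻¹ := ⟨_, rfl⟩
    obtain ⟨E, hE⟩ : ∃ t, t = r' * (b₁ * r' * b₁⁻¹)⁻¹ := ⟨_, rfl⟩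
    rw [← hC] at k1
    rw [← hE] at k2
    have k3 : (r * (a₁ * C * a₁⁻¹)⁻¹ * r⁻¹ * (a₁ * E * a₁⁻¹)⁻¹) * (a₁ * (r' * C * r'⁻¹ * E) * a₁⁻¹) = 1 := by
      rw [← k1, ← k2, hC, hE, ← p3]
      group
    -- `r = (a₁ E a₁⁻¹)⁻¹ * (a₁ r a₁⁻¹)`
    have k4 : r = (a₁ * E * a₁⁻¹)⁻¹ * (a₁ * r * a₁⁻¹) := by
      rw [← k2]; group
    have k5 : (r⁻¹ * r') * C = C * (r⁻¹ * r') := by
      have k6 : a₁ * (C⁻¹ * (r⁻¹ * r') * C * (r⁻¹ * r')⁻¹) * a₁⁻¹ = 1 := by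
        have k7 : (r * (a₁ * C * a₁⁻¹)⁻¹ * r⁻¹ * (a₁ * E * a₁⁻¹)⁻¹) * (a₁ * (r' * C * r'⁻¹ * E) * a₁⁻¹) =
            ((a₁ * E * a₁⁻¹)⁻¹ * (a₁ * r * a₁⁻¹)) *
              (a₁ * (C⁻¹ * (r⁻¹ * r') * C * (r⁻¹ * r')⁻¹) * a₁⁻¹) *
              ((a₁ * E * a₁⁻¹)⁻¹ * (a₁ * r * a₁⁻¹))⁻¹ := by
          conv_lhs => rw [k4]
          group
        rw [k7] at k3
        exact conj_eq_one_iff.1 k3
      have k8 : C⁻¹ * (r⁻¹ * r') * C * (r⁻¹ * r')⁻¹ = 1 := conj_eq_one_iff.1 k6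
      have k9 : C⁻¹ * ((r⁻¹ * r') * C) = r⁻¹ * r' := by
        rw [← mul_assoc]; exact mul_inv_eq_one.1 k8
      calc (r⁻¹ * r') * C = C * (C⁻¹ * ((r⁻¹ * r') * C)) := by group
        _ = _ := by rw [k9]
    have e3 : ((r₁⁻¹ * r₂ : Q) : H) = r⁻¹ * r' := by rw [hr, hr']; rfl
    have e4 : ((q₂ * (K b₁ q₂)⁻¹ : Q) : H) = C := by rw [hC, hq']; rfl
    rw [e3, e4]
    exact k5
  have hrank := rank_lemma D.ω hnd (D.L a₁ : D.V →ₗ[ZMod 2] D.V) (D.L b₁ : D.V →ₗ[ZMod 2] D.V)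
    (D.L (a₁ * b₁) : D.V →ₗ[ZMod 2] D.V)
    (fun v => (hLm a₁ b₁ (a₁ * b₁) (fun x => by group) v).symm) hsur hB
  -- the actions of the modified elements
  have hLmul : ∀ g k v, D.L (g * k) v = D.L g (D.L k v) := fun g k v =>
    (hLm g k (g * k) (fun x => by group) v).symm
  have hLa : D.L a₁ = D.L a := by
    ext v
    rw [ha₁, hLmul, hLmul, hLQ _ (Q.inv_mem hu₀), hLQ _ hu₀]
  have hLb : D.L b₁ = D.L b := by
    ext v
    rw [hb₁, hLmul, hLmul, hLQ _ (Q.inv_mem hw₀), hLQ _ hw₀]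
  have hLab : D.L (a₁ * b₁) = D.L (a * b) := by
    ext v
    rw [hLmul, hLmul, hLa, hLb]
  rw [hLa, hLb, hLab] at hrank
  -- cardinalities
  choose sec hsec using D.surj
  have hQV : Nat.card Q ≤ 2 * Nat.card D.V := by
    have h1 : Nat.card Q ≤ Nat.card (D.V × Bool) := by
      refine Nat.card_le_card_of_injective (fun x : Q => (D.cls x, decide (x = sec (D.cls x)))) ?_
      intro x y hxy
      have h2 : D.cls x = D.cls y := congrArg Prod.fst hxy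
      have h3 : decide (x = sec (D.cls x)) = decide (y = sec (D.cls y)) := congrArg Prod.snd hxy
      have h4 := (D.cls_eq (sec (D.cls x)) x).1 (hsec _)
      have h5 := (D.cls_eq (sec (D.cls y)) y).1 (hsec _)
      by_cases h6 : x = sec (D.cls x)
      · have h7 : y = sec (D.cls y) := of_decide_eq_true (h3 ▸ decide_eq_true h6)
        rw [h6, h7, h2, ← h7]
      · have h7 : ¬ y = sec (D.cls y) := of_decide_eq_false (h3 ▸ decide_eq_false h6)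
        have h8 : (x : H) = sec (D.cls x) * z := h4.resolve_left (fun e => h6 (Subtype.ext e))
        have h9 : (y : H) = sec (D.cls y) * z := h5.resolve_left (fun e => h7 (Subtype.ext e))
        exact Subtype.ext (by rw [h8, h9, h2])
    rw [Nat.card_prod, Nat.card_eq_fintype_card (α := Bool), Fintype.card_bool, mul_comm] at h1
    exact h1
  have hfix : ∀ g : H, 2 * Nat.card (LinearMap.ker ((D.L g : D.V →ₗ[ZMod 2] D.V) + LinearMap.id)) ≤
      Nat.card (FixZ Q z g) := by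
    intro g
    have hfi : Finite (FixZ Q z g) := by unfold FixZ; infer_instance
    have hmf : ∀ y : Q, D.cls y ∈ LinearMap.ker ((D.L g : D.V →ₗ[ZMod 2] D.V) + LinearMap.id) →
        (g * y * g⁻¹ = y ∨ g * y * g⁻¹ = y * z) := by
      intro y hy
      rw [LinearMap.mem_ker] at hy
      have h1 : D.L g (D.cls y) + D.cls y = 0 := hy
      have h2 : D.cls y = D.cls (K g y) := by
        rw [← hL]
        have h3 : ∀ v : D.V, v + v = 0 := by
          intro v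
          have : (2 : ZMod 2) • v = 0 := by
            rw [show (2 : ZMod 2) = 0 from rfl, zero_smul]
          rwa [two_smul] at this
        have h4 := congrArg (fun t => t + D.cls y) h1
        simp only [add_assoc, h3, add_zero, zero_add] at h4
        exact h4.symm
      exact (D.cls_eq _ _).1 h2
    have hz1 : D.cls (⟨z, h.mem⟩ : Q) = 0 := by
      rw [← h00, eq_comm, D.cls_eq]
      right
      show z = (1 : H) * z
      rw [one_mul]
    have hcl : ∀ (v : D.V) (ε : Bool), D.cls (if ε then sec v * ⟨z, h.mem⟩ else sec v) = v := by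
      intro v ε
      cases ε
      · simpa using hsec v
      · simp [D.cls_mul, hz1, hsec v]
    have h1 : Nat.card (LinearMap.ker ((D.L g : D.V →ₗ[ZMod 2] D.V) + LinearMap.id) × Bool) ≤
        Nat.card (FixZ Q z g) := by
      refine Nat.card_le_card_of_injective
        (fun p => (⟨if p.2 then sec p.1 * ⟨z, h.mem⟩ else sec p.1, hmf _ (by rw [hcl]; exact p.1.2)⟩ :
          FixZ Q z g)) ?_
      rintro ⟨v, ε⟩ ⟨v', ε'⟩ hp
      have h2 : (if ε then sec v * ⟨z, h.mem⟩ else sec v) = (if ε' then sec v' * ⟨z, h.mem⟩ else sec v') :=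
        congrArg Subtype.val hp
      have h3 : (v : D.V) = v' := by
        have := congrArg D.cls h2
        rwa [hcl, hcl] at this
      have h4 : v = v' := Subtype.ext h3
      subst h4
      have hz2 : ∀ y : Q, y * ⟨z, h.mem⟩ ≠ y := by
        intro y hy
        have h5 : (⟨z, h.mem⟩ : Q) = 1 := by simpa using hy
        exact h.ne (congrArg Subtype.val h5)
      cases ε <;> cases ε' <;> simp_all
    rw [Nat.card_prod, Nat.card_eq_fintype_card (α := Bool), Fintype.card_bool, mul_comm] at h1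
    exact h1
  have hf1 := hfix a
  have hf2 := hfix b
  have hf3 := hfix (a * b)
  have hcard : ∀ W : Submodule (ZMod 2) D.V, Nat.card W = 2 ^ finrank (ZMod 2) W := by
    intro W
    have := Module.natCard_eq_pow_finrank (K := ZMod 2) (V := W)
    rwa [Nat.card_zmod] at this
  have hcV : Nat.card D.V = 2 ^ finrank (ZMod 2) D.V := by
    have := Module.natCard_eq_pow_finrank (K := ZMod 2) (V := D.V)
    rwa [Nat.card_zmod] at this
  rw [hcard] at hf1 hf2 hf3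
  rw [hcV] at hQV
  have hm : (2 * 2 ^ finrank (ZMod 2) (LinearMap.ker ((D.L a : D.V →ₗ[ZMod 2] D.V) + LinearMap.id))) *
      (2 * 2 ^ finrank (ZMod 2) (LinearMap.ker ((D.L b : D.V →ₗ[ZMod 2] D.V) + LinearMap.id))) *
      (2 * 2 ^ finrank (ZMod 2) (LinearMap.ker ((D.L (a * b) : D.V →ₗ[ZMod 2] D.V) + LinearMap.id))) ≤
      Nat.card (FixZ Q z a) * Nat.card (FixZ Q z b) * Nat.card (FixZ Q z (a * b)) :=
    Nat.mul_le_mul (Nat.mul_le_mul hf1 hf2) hf3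
  have hp := Nat.pow_le_pow_right (n := 2) (by norm_num) hrank
  rw [pow_add, pow_add] at hp
  have : 4 * Nat.card Q ≤ 8 * 2 ^ finrank (ZMod 2) D.V := by omega
  have h8 : 8 * 2 ^ finrank (ZMod 2) D.V ≤ (2 * 2 ^ finrank (ZMod 2) (LinearMap.ker ((D.L a : D.V →ₗ[ZMod 2] D.V) + LinearMap.id))) *
      (2 * 2 ^ finrank (ZMod 2) (LinearMap.ker ((D.L b : D.V →ₗ[ZMod 2] D.V) + LinearMap.id))) *
      (2 * 2 ^ finrank (ZMod 2) (LinearMap.ker ((D.L (a * b) : D.V →ₗ[ZMod 2] D.V) + LinearMap.id))) := by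
    calc 8 * 2 ^ finrank (ZMod 2) D.V ≤ 8 * _ := Nat.mul_le_mul_left 8 hp
      _ = _ := by ring
  omega

/-- only the coset of `a` matters -/
theorem fixZ_mul (h : ES Q z) {p : H} (hp : p ∈ Q) (a : H) : FixZ Q z (p * a) = FixZ Q z a := by
  unfold FixZ
  congr 1
  funext x
  obtain ⟨ξ, hξ, e⟩ := h.conj_eq hp (h.conj_mem x.2 a)
  have e1 : p * a * x * (p * a)⁻¹ = a * x * a⁻¹ * ξ := by rw [← e]; group
  rw [e1]
  apply propext
  rcases hξ with rfl | rfl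
  · rw [mul_one]
  · constructor
    · rintro (e2 | e2)
      · right
        have e3 := congrArg (· * ξ) e2
        simp only [mul_assoc _ ξ ξ, h.sq, mul_one] at e3
        exact e3
      · left
        exact mul_right_cancel e2
    · rintro (e2 | e2)
      · right
        rw [e2]
      · left
        rw [e2, mul_assoc, h.sq, mul_one]

/-- `a` without fixed point on `Q / ⟨z⟩` -/
theorem card_fixZ_le {a : H}
    (ha : ∀ x ∈ Q, (a * x * a⁻¹ = x ∨ a * x * a⁻¹ = x * z) → x = 1 ∨ x = z) :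
    Nat.card (FixZ Q z a) ≤ 2 := by
  classical
  have h1 : Nat.card (FixZ Q z a) ≤ Nat.card Bool := by
    refine Nat.card_le_card_of_injective (fun y : FixZ Q z a => decide ((y.1 : H) = 1)) ?_
    intro x y hxy
    have h2 := ha x.1 x.1.2 x.2
    have h3 := ha y.1 y.1.2 y.2
    have h4 : ((x.1 : H) = 1) ↔ ((y.1 : H) = 1) := by
      have : decide ((x.1 : H) = 1) = decide ((y.1 : H) = 1) := hxy
      simpa using this
    apply Subtype.ext
    apply Subtype.ext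
    rcases h2 with h2 | h2
    · rw [h2, h4.1 h2]
    · rcases h3 with h3 | h3
      · rw [h3, h4.2 h3]
      · rw [h2, h3]
  simpa using h1

/-- `c` non-trivial on `Q / ⟨z⟩` -/
theorem card_fixZ_lt [Finite Q] {c : H}
    (hc : ∃ y ∈ Q, ¬ (c * y * c⁻¹ = y ∨ c * y * c⁻¹ = y * z)) : Nat.card (FixZ Q z c) < Nat.card Q := by
  obtain ⟨y, hy, hyc⟩ := hc
  have : Fintype Q := Fintype.ofFinite Q
  classical
  unfold FixZ
  rw [Nat.card_eq_fintype_card, Nat.card_eq_fintype_card]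
  exact Fintype.card_subtype_lt (x := (⟨y, hy⟩ : Q)) hyc

/-- `a` without fixed point on `Q / ⟨z⟩`, `|C_V(b)| |C_V(ab)| < |V|`. -/
theorem ES.prod_step_left (h : ES Q z) [Finite Q] {a b x : H}
    (ha : ∀ x ∈ Q, (a * x * a⁻¹ = x ∨ a * x * a⁻¹ = x * z) → x = 1 ∨ x = z) (hx : x ∈ Q)
    (hlt : Nat.card (FixZ Q z b) * Nat.card (FixZ Q z (a * b)) < 2 * Nat.card Q) :
    ∃ u ∈ Q, ∃ w ∈ Q, (u * a * u⁻¹) * (w * b * w⁻¹) = a * b * x := by
  refine ES.prod_step h (FPz.of_left h b ha) hx ?_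
  have h1 := card_fixZ_le ha
  calc Nat.card (FixZ Q z a) * Nat.card (FixZ Q z b) * Nat.card (FixZ Q z (a * b)) =
      Nat.card (FixZ Q z a) * (Nat.card (FixZ Q z b) * Nat.card (FixZ Q z (a * b))) := by rw [mul_assoc]
    _ ≤ 2 * (Nat.card (FixZ Q z b) * Nat.card (FixZ Q z (a * b))) := Nat.mul_le_mul_right _ h1
    _ < 4 * Nat.card Q := by omega

/-- `a`, `b` without fixed point on `Q / ⟨z⟩`, `a * b` non-trivial. -/
theorem ES.prod_step_fpf (h : ES Q z) [Finite Q] {a b x : H}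
    (ha : ∀ x ∈ Q, (a * x * a⁻¹ = x ∨ a * x * a⁻¹ = x * z) → x = 1 ∨ x = z)
    (hb : ∀ x ∈ Q, (b * x * b⁻¹ = x ∨ b * x * b⁻¹ = x * z) → x = 1 ∨ x = z)
    (hc : ∃ y ∈ Q, ¬ ((a * b) * y * (a * b)⁻¹ = y ∨ (a * b) * y * (a * b)⁻¹ = y * z)) (hx : x ∈ Q) :
    ∃ u ∈ Q, ∃ w ∈ Q, (u * a * u⁻¹) * (w * b * w⁻¹) = a * b * x := by
  refine ES.prod_step_left h ha hx ?_
  have h1 := card_fixZ_le hb
  have h2 := card_fixZ_lt hc
  calc Nat.card (FixZ Q z b) * Nat.card (FixZ Q z (a * b)) ≤ 2 * Nat.card (FixZ Q z (a * b)) :=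
        Nat.mul_le_mul_right _ h1
    _ < 2 * Nat.card Q := by omega

theorem ES.pow_four (h : ES Q z) {x : H} (hx : x ∈ Q) : x ^ 4 = 1 := by
  have e : x ^ 4 = (x * x) * (x * x) := by rw [pow_succ, pow_succ, pow_two]; group
  rcases h.pow x hx with h1 | h1
  · rw [e, h1, mul_one]
  · rw [e, h1, h.sq]

/-- **Lifting products of two elements of order prime to `n` (even) through an extraspecial kernel.** -/
theorem Pr.of_es {K : Type*} [Group K] (f : H →* K) (h : ES f.ker z) [Finite f.ker] {n : ℕ} (hn : 2 ∣ n)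
    {a b g : H} (hfp : FPz f.ker z a b)
    (hlt : Nat.card (FixZ f.ker z a) * Nat.card (FixZ f.ker z b) * Nat.card (FixZ f.ker z (a * b)) <
      4 * Nat.card f.ker)
    (hg : f g = f a * f b) (ha : (orderOf (f a)).Coprime n) (hb : (orderOf (f b)).Coprime n) : Pr n g := by
  obtain ⟨m, rfl⟩ := hn
  have hex : ∀ x ∈ f.ker, ∃ k : ℕ, x ^ (2 * m) ^ k = 1 := by
    intro x hx
    refine ⟨2, ?_⟩
    rw [show (2 * m) ^ 2 = 4 * (m ^ 2) by ring, pow_mul, ES.pow_four h hx, one_pow]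
  obtain ⟨y, hy, hay⟩ := exists_lift f rfl hex ha
  obtain ⟨t, ht, hbt⟩ := exists_lift f rfl hex hb
  have e1 : a * y = (a * y * a⁻¹) * a := by group
  have e2 : b * t = (b * t * b⁻¹) * b := by group
  have m1 := h.conj_mem hy a
  have m2 := h.conj_mem ht b
  have hfp' : FPz f.ker z (a * y) (b * t) := by
    rw [e1, e2]
    exact hfp.mul_left h m1 m2
  have m3 : (a * y * a⁻¹) * (a * (b * t * b⁻¹) * a⁻¹) ∈ f.ker := f.ker.mul_mem m1 (h.conj_mem m2 a)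
  have e3 : (a * y) * (b * t) = ((a * y * a⁻¹) * (a * (b * t * b⁻¹) * a⁻¹)) * (a * b) := by group
  have hm : (a * y * (b * t))⁻¹ * g ∈ f.ker := by
    rw [MonoidHom.mem_ker] at hy ht ⊢
    rw [map_mul, map_inv, map_mul, map_mul, map_mul, hy, ht, hg, mul_one, mul_one, inv_mul_cancel]
  obtain ⟨u, -, w, -, e⟩ := ES.prod_step h hfp' hm (by
    rw [e3, fixZ_mul h m3, e1, fixZ_mul h m1, e2, fixZ_mul h m2]
    exact hlt)
  rw [mul_inv_cancel_left] at e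
  refine ⟨u * (a * y) * u⁻¹, w * (b * t) * w⁻¹, e.symm, ?_, ?_⟩
  · rw [show u * (a * y) * u⁻¹ = MulAut.conj u (a * y) from rfl, MulEquiv.orderOf_eq]; exact hay
  · rw [show w * (b * t) * w⁻¹ = MulAut.conj w (b * t) from rfl, MulEquiv.orderOf_eq]; exact hbt

/-- **The noncentral elements of `Q`.** -/
theorem Pr.of_es_mem (h : ES Q z) [Finite Q] {n : ℕ} {a : H} (hord : (orderOf a).Coprime n)
    (hfix : ∀ x ∈ Q, (a * x * a⁻¹ = x ∨ a * x * a⁻¹ = x * z) → x = 1 ∨ x = z)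
    {q : H} (hq : q ∈ Q) (hne : q ≠ z) : Pr n q := by
  by_cases hq1 : q = 1
  · rw [hq1]; exact Pr.one n
  have hn := h.normal
  have hzn := h.normal_zpowers
  obtain ⟨u, hu, w, hw, e⟩ := step (a := a) (b := a⁻¹) (fpz_cov h (FPz.of_left h a⁻¹ hfix)) hq
  have key : Pr n (u * a * u⁻¹ * (w * a⁻¹ * w⁻¹)) := by
    refine ⟨_, _, rfl, ?_, ?_⟩
    · rw [show u * a * u⁻¹ = MulAut.conj u a from rfl, MulEquiv.orderOf_eq]; exact hord
    · rw [show w * a⁻¹ * w⁻¹ = MulAut.conj w a⁻¹ from rfl, MulEquiv.orderOf_eq, orderOf_inv]; exact hord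
  rw [mul_inv_cancel, one_mul, h.mem_zpowers] at e
  rcases e with e | e
  · rwa [inv_mul_eq_one.1 e] at key
  · have e0 : q = u * a * u⁻¹ * (w * a⁻¹ * w⁻¹) * z := by rw [← e]; group
    have : ∃ y ∈ Q, ¬ (q * y = y * q) := by
      by_contra hno
      push Not at hno
      rcases h.nd q hq hno with h1 | h1
      · exact hq1 h1
      · exact hne h1
    obtain ⟨y, hy, hyq⟩ := this
    have e2 : q * y = y * q * z := (h.comm q hq y hy).resolve_left hyq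
    refine Pr.of_conj (x := y) ?_
    have e3 : y * q * y⁻¹ = q * z := by
      have e4 : y * q = q * y * z := by rw [e2, mul_assoc (y * q), h.sq, mul_one]
      rw [e4, mul_assoc q, h.central, mul_assoc, mul_assoc, mul_inv_cancel, mul_one]
    rw [e3, e0, mul_assoc, h.sq, mul_one]
    exact key

end Extra

end Cfsg.Agent.H323.Pw
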