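import Mathlib
import Cfsg.Agent.H323.Pw.Coset

/-!
# The extraspecial coset lemma for products, odd primes (S2465, helper323)

* `XS p Q z` : `Q` is a normal subgroup with centre `⟨z⟩ ≤ Z(H)` of order `p`, `V = Q / ⟨z⟩` elementary abelian.
* `FixX Q z a` : the elements of `Q` fixed by `a` modulo `⟨z⟩`.
* `XS.prod_step` (`p` odd): `V = [V, a] + [V, b]` and `dim C_V(a) + dim C_V(b) + dim C_V(ab) + 2 ≤ dim V`: every
  element of `a b Q` is `(u a u⁻¹) (w b w⁻¹)` with `u, w ∈ Q`.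
* `XS.prod_conj` : the same without numerical condition if the element `g` is conjugate to `g z` under `Q`.
-/

set_option autoImplicit false

namespace Cfsg.Agent.H323.Pw

open scoped commutatorElement
open Cfsg.Agent.H843.Ore
open Cfsg.Agent.H78.Pw
open Module

universe u

/-! ### linear algebra -/

section Lin

variable {K : Type*} [Field K] {V : Type*} [AddCommGroup V] [Module K V]

/-- the linearised product map -/
def phi (α γ : V →ₗ[K] V) : V × V →ₗ[K] V :=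
  (LinearMap.id - α).comp (LinearMap.fst K V V) + (α - γ).comp (LinearMap.snd K V V)

theorem phi_apply (α γ : V →ₗ[K] V) (r : V × V) : phi α γ r = (r.1 - α r.1) + (α r.2 - γ r.2) := rfl

theorem finrank_ker_phi [FiniteDimensional K V] (α γ : V →ₗ[K] V) (hφ : Function.Surjective (phi α γ)) :
    finrank K (LinearMap.ker (phi α γ)) = finrank K V := by
  have h2 := LinearMap.finrank_range_add_finrank_ker (phi α γ)
  rw [LinearMap.range_eq_top.2 hφ, finrank_top, Module.finrank_prod] at h2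
  omega

variable {S : Type*} [AddCommGroup S] [Module K S]

/-- the polarisation -/
def bet (ω : LinearMap.BilinForm K V) (β : V →ₗ[K] V) (i₁ i₂ : S →ₗ[K] V) : LinearMap.BilinForm K S :=
  LinearMap.compl₁₂ ω (i₂ - i₁) ((LinearMap.id - β).comp i₂)

theorem bet_apply (ω : LinearMap.BilinForm K V) (β : V →ₗ[K] V) (i₁ i₂ : S →ₗ[K] V) (r q : S) :
    bet ω β i₁ i₂ r q = ω (i₂ r - i₁ r) (i₂ q - β (i₂ q)) := rfl

variable [FiniteDimensional K V] [FiniteDimensional K S]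

theorem rank_p (ω : LinearMap.BilinForm K V) (hnd : ∀ v, (∀ u, ω u v = 0) → v = 0)
    (α β γ : V →ₗ[K] V) (e : ∀ x, γ x = α (β x)) (i₁ i₂ : S →ₗ[K] V) (hinj : ∀ r, i₁ r = 0 → i₂ r = 0 → r = 0)
    (hrel : ∀ r, (i₁ r - α (i₁ r)) + (α (i₂ r) - γ (i₂ r)) = 0) (hS : finrank K S = finrank K V)
    (R : Submodule K S) (hR : ∀ q ∈ R, ∀ r, bet ω β i₁ i₂ r q = 0) :
    finrank K R ≤ finrank K (LinearMap.ker (LinearMap.id - α)) +
      finrank K (LinearMap.ker (LinearMap.id - β)) + finrank K (LinearMap.ker (LinearMap.id - γ)) := by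
  classical
  let sM : S →ₗ[K] V := i₂ - i₁
  have hsM : ∀ r, sM r = i₂ r - i₁ r := fun r => rfl
  have hrs := LinearMap.finrank_range_add_finrank_ker sM
  rw [hS] at hrs
  let tR : R →ₗ[K] V := ((LinearMap.id - β).comp i₂).comp R.subtype
  have htR : ∀ r : R, tR r = i₂ r - β (i₂ r) := fun r => rfl
  have hrt := LinearMap.finrank_range_add_finrank_ker tR
  have hinj' : ∀ r r' : S, i₁ r = i₁ r' → i₂ r = i₂ r' → r = r' := by
    intro r r' h1 h2
    exact sub_eq_zero.1 (hinj _ (by rw [map_sub, h1, sub_self]) (by rw [map_sub, h2, sub_self]))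
  -- kernels
  have hks : finrank K (LinearMap.ker sM) ≤ finrank K (LinearMap.ker (LinearMap.id - γ)) := by
    have hmem : ∀ r : LinearMap.ker sM, i₁ r ∈ LinearMap.ker (LinearMap.id - γ) := by
      intro r
      have h1 : i₂ r - i₁ r = 0 := r.2
      have h2 : i₂ r = i₁ r := sub_eq_zero.1 h1
      have h3 := hrel r
      rw [h2] at h3
      show i₁ r - γ (i₁ r) = 0
      rw [← h3]
      abel
    let g : LinearMap.ker sM →ₗ[K] LinearMap.ker (LinearMap.id - γ) :=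
      LinearMap.codRestrict _ (i₁.comp (LinearMap.ker sM).subtype) hmem
    refine LinearMap.finrank_le_finrank_of_injective (f := g) ?_
    intro r r' hg
    have h0 : i₁ r = i₁ r' := congrArg Subtype.val hg
    have h1 : i₂ r = i₁ r := sub_eq_zero.1 r.2
    have h1' : i₂ r' = i₁ r' := sub_eq_zero.1 r'.2
    exact Subtype.ext (hinj' _ _ h0 (by rw [h1, h1', h0]))
  have hkt : finrank K (LinearMap.ker tR) ≤ finrank K (LinearMap.ker (LinearMap.id - α)) +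
      finrank K (LinearMap.ker (LinearMap.id - β)) := by
    have hmem2 : ∀ r : LinearMap.ker tR, i₂ r.1 ∈ LinearMap.ker (LinearMap.id - β) := fun r => r.2
    have hmem1 : ∀ r : LinearMap.ker tR, i₁ r.1 ∈ LinearMap.ker (LinearMap.id - α) := by
      intro r
      have h1 : i₂ r.1 - β (i₂ r.1) = 0 := r.2
      have h2 : i₂ r.1 = β (i₂ r.1) := sub_eq_zero.1 h1
      have h3 := hrel r.1
      rw [e, ← h2, sub_self, add_zero] at h3
      exact h3
    let g : LinearMap.ker tR →ₗ[K] LinearMap.ker (LinearMap.id - α) × LinearMap.ker (LinearMap.id - β) :=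
      LinearMap.prod
        (LinearMap.codRestrict _ (i₁.comp (R.subtype.comp (LinearMap.ker tR).subtype)) hmem1)
        (LinearMap.codRestrict _ (i₂.comp (R.subtype.comp (LinearMap.ker tR).subtype)) hmem2)
    rw [← Module.finrank_prod]
    refine LinearMap.finrank_le_finrank_of_injective (f := g) ?_
    intro r r' hg
    have h0 : i₁ r.1 = i₁ r'.1 := congrArg (fun p => (p.1 : V)) hg
    have h1 : i₂ r.1 = i₂ r'.1 := congrArg (fun p => (p.2 : V)) hg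
    exact Subtype.ext (Subtype.ext (hinj' _ _ h0 h1))
  -- orthogonality
  let η : V →ₗ[K] Dual K V := ω.flip
  have hη : ∀ v u, η v u = ω u v := fun v u => rfl
  have horth : (LinearMap.range tR).map η ≤ (LinearMap.range sM).dualAnnihilator := by
    rintro _ ⟨_, ⟨q, rfl⟩, rfl⟩
    rw [Submodule.mem_dualAnnihilator]
    rintro _ ⟨r, rfl⟩
    exact hR q.1 q.2 r
  have hηinj : Function.Injective η := by
    rw [injective_iff_map_eq_zero]
    intro v hv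
    apply hnd
    intro u
    rw [← hη, hv, LinearMap.zero_apply]
  have h1 := Submodule.finrank_mono horth
  rw [← (Submodule.equivMapOfInjective η hηinj (LinearMap.range tR)).finrank_eq] at h1
  have h1' : finrank K (LinearMap.range tR) ≤
      finrank K ((LinearMap.range sM).dualAnnihilator : Submodule K (Dual K V)) := h1
  have h2 : finrank K (LinearMap.range sM) +
      finrank K ((LinearMap.range sM).dualAnnihilator : Submodule K (Dual K V)) =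
      finrank K V := Subspace.finrank_add_finrank_dualAnnihilator_eq (LinearMap.range sM)
  clear h1
  omega

end Lin

/-- a quadratic function of rank at least two is surjective -/
theorem surj_of_rank {p : ℕ} [hp : Fact p.Prime] (hp2 : p ≠ 2) {S : Type*} [AddCommGroup S] [Module (ZMod p) S]
    [FiniteDimensional (ZMod p) S] (Φ : S → ZMod p) (B : LinearMap.BilinForm (ZMod p) S)
    (hΦ : ∀ r q, Φ (r + q) = Φ r + Φ q + B r q)
    (hd : ∀ R : Submodule (ZMod p) S, (∀ q ∈ R, ∀ r, B r q = 0) → finrank (ZMod p) R + 2 ≤ finrank (ZMod p) S) :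
    Function.Surjective Φ := by
  classical
  have h2 : (2 : ZMod p) ≠ 0 := by
    intro h
    have h3 : ((2 : ℕ) : ZMod p) = 0 := by exact_mod_cast h
    rw [ZMod.natCast_eq_zero_iff] at h3
    exact hp2 ((Nat.prime_dvd_prime_iff_eq hp.out Nat.prime_two).1 h3)
  have hsym : ∀ r q, B r q = B q r := by
    intro r q
    have h3 := hΦ r q
    rw [add_comm r q, hΦ q r, add_comm (Φ q) (Φ r)] at h3
    exact (add_left_cancel h3).symm
  -- a nonisotropic vector in every subspace on which the form is not zero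
  have hni : ∀ U : Submodule (ZMod p) S, (∀ u ∈ U, B u u = 0) → ∀ u ∈ U, ∀ v ∈ U, B u v = 0 := by
    intro U hU u hu v hv
    have h3 := hU (u + v) (U.add_mem hu hv)
    simp only [map_add, LinearMap.add_apply] at h3
    rw [hU u hu, hU v hv, zero_add, add_zero, hsym v u, ← two_mul] at h3
    exact (mul_eq_zero.1 h3).resolve_left h2
  obtain ⟨q, hq⟩ : ∃ q, B q q ≠ 0 := by
    by_contra hno
    push Not at hno
    have h3 := hd ⊤ (fun q _ r => hni ⊤ (fun u _ => hno u) r trivial q trivial)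
    rw [finrank_top] at h3
    omega
  obtain ⟨U, hUdef⟩ : ∃ U : Submodule (ZMod p) S, U = LinearMap.ker (B q) := ⟨_, rfl⟩
  have hUm : ∀ u, u ∈ U ↔ B q u = 0 := fun u => by rw [hUdef]; exact LinearMap.mem_ker
  have hU1 : finrank (ZMod p) S ≤ finrank (ZMod p) U + 1 := by
    rw [hUdef]
    have h3 := LinearMap.finrank_range_add_finrank_ker (B q)
    have h4 := Submodule.finrank_le (LinearMap.range (B q))
    rw [Module.finrank_self] at h4
    omega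
  obtain ⟨q', hq'U, hq'⟩ : ∃ q' ∈ U, B q' q' ≠ 0 := by
    by_contra hno
    push Not at hno
    have h3 := hd U (by
      intro u hu r
      have hu0 : B q u = 0 := (hUm u).1 hu
      -- `r = x q + u'`
      have hmem : r - (B q r / B q q) • q ∈ U := by
        rw [hUm, map_sub, map_smul, smul_eq_mul, div_mul_cancel₀ _ hq, sub_self]
      have h5 := hni U hno _ hmem u hu
      rw [map_sub, LinearMap.sub_apply, map_smul, LinearMap.smul_apply, hu0, smul_zero, sub_zero] at h5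
      exact h5)
    omega
  have hqq' : B q q' = 0 := (hUm q').1 hq'U
  -- the linear part
  have hadd : ∀ r s, (Φ (r + s) - B (r + s) (r + s) / 2) = (Φ r - B r r / 2) + (Φ s - B s s / 2) := by
    intro r s
    simp only [hΦ, map_add, LinearMap.add_apply]
    rw [hsym s r]
    field_simp
    ring
  let lam : S →+ ZMod p := AddMonoidHom.mk' (fun r => Φ r - B r r / 2) hadd
  have hlam : ∀ (c : ZMod p) (r : S), lam (c • r) = c * lam r := fun c r => ZMod.map_smul lam c r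
  have hval : ∀ x y : ZMod p, Φ (x • q + y • q') =
      (x ^ 2 * (B q q / 2) + x * lam q) + (y ^ 2 * (B q' q' / 2) + y * lam q') := by
    intro x y
    have h3 : Φ (x • q + y • q') = lam (x • q + y • q') + B (x • q + y • q') (x • q + y • q') / 2 := by
      show _ = (Φ (x • q + y • q') - B (x • q + y • q') (x • q + y • q') / 2) + _
      ring
    rw [h3, map_add, hlam, hlam]
    simp only [map_add, map_smul, LinearMap.add_apply, LinearMap.smul_apply, smul_eq_mul, hqq', hsym q' q]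
    ring
  intro j
  obtain ⟨x, y, hxy⟩ := FiniteField.exists_root_sum_quadratic (R := ZMod p)
    (f := Polynomial.C (B q q / 2) * Polynomial.X ^ 2 + Polynomial.C (lam q) * Polynomial.X + Polynomial.C (-j))
    (g := Polynomial.C (B q' q' / 2) * Polynomial.X ^ 2 + Polynomial.C (lam q') * Polynomial.X + Polynomial.C 0)
    (Polynomial.degree_quadratic (div_ne_zero hq h2)) (Polynomial.degree_quadratic (div_ne_zero hq' h2))
    (by
      rw [ZMod.card]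
      rcases hp.out.eq_two_or_odd with h | h
      · exact absurd h hp2
      · exact h)
  refine ⟨x • q + y • q', ?_⟩
  rw [hval]
  simp only [Polynomial.eval_add, Polynomial.eval_mul, Polynomial.eval_C, Polynomial.eval_pow, Polynomial.eval_X,
    add_zero] at hxy
  linear_combination hxy

/-! ### the powers of `z` -/

section Ez

variable {H : Type u} [Group H] {p : ℕ} [hp : Fact p.Prime] {z : H}

/-- the power `z ^ k` -/
def ez (p : ℕ) (z : H) (k : ZMod p) : H := z ^ k.val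

theorem ez_zero : ez p z 0 = 1 := by rw [ez, ZMod.val_zero, pow_zero]

theorem ez_add (ho : orderOf z = p) (a b : ZMod p) : ez p z (a + b) = ez p z a * ez p z b := by
  have h1 := pow_mod_orderOf z (a.val + b.val)
  rw [ho] at h1
  rw [ez, ez, ez, ← pow_add, ← h1, ZMod.val_add]

theorem ez_neg (ho : orderOf z = p) (a : ZMod p) : ez p z (-a) = (ez p z a)⁻¹ := by
  rw [eq_inv_iff_mul_eq_one, ← ez_add ho, neg_add_cancel, ez_zero]

theorem ez_inj (ho : orderOf z = p) {a b : ZMod p} (h : ez p z a = ez p z b) : a = b := by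
  apply ZMod.val_injective
  exact pow_injOn_Iio_orderOf (by rw [Set.mem_Iio, ho]; exact ZMod.val_lt a)
    (by rw [Set.mem_Iio, ho]; exact ZMod.val_lt b) h

theorem ez_mem (k : ZMod p) : ez p z k ∈ Subgroup.zpowers z := ⟨k.val, by rw [ez, ← zpow_natCast]⟩

theorem exists_ez (ho : orderOf z = p) {x : H} (hx : x ∈ Subgroup.zpowers z) : ∃ k : ZMod p, ez p z k = x := by
  obtain ⟨n, rfl⟩ := hx
  refine ⟨(n : ZMod p), ?_⟩
  have h1 : ((n : ZMod p).val : ℤ) = n % (p : ℤ) := ZMod.val_intCast n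
  have h2 := zpow_mod_orderOf z n
  rw [ho] at h2
  rw [ez, ← zpow_natCast, h1]
  exact h2

theorem ez_one (ho : orderOf z = p) : ez p z 1 = z := by
  have : (1 : ZMod p).val = 1 := ZMod.val_one p
  rw [ez, this, pow_one]

theorem ez_comm (hc : ∀ h : H, h * z = z * h) (k : ZMod p) (h : H) : h * ez p z k = ez p z k * h :=
  ((show Commute h z from hc h).pow_right k.val).eq

open Classical in
/-- the logarithm -/
noncomputable def lg (p : ℕ) (z : H) (x : H) : ZMod p := if h : ∃ k : ZMod p, ez p z k = x then h.choose else 0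

theorem ez_lg (ho : orderOf z = p) {x : H} (hx : x ∈ Subgroup.zpowers z) : ez p z (lg p z x) = x := by
  have h := exists_ez ho hx
  unfold lg
  rw [dif_pos h]
  exact h.choose_spec

theorem lg_ez (ho : orderOf z = p) (k : ZMod p) : lg p z (ez p z k) = k :=
  ez_inj ho (ez_lg ho (ez_mem k))

end Ez

/-! ### extraspecial groups -/

/-- `Q` is normal with centre `⟨z⟩ ≤ Z(H)` of order `p`, `Q / ⟨z⟩` is elementary abelian -/
structure XS {H : Type u} [Group H] (p : ℕ) (Q : Subgroup H) (z : H) : Prop where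
  normal : Q.Normal
  mem : z ∈ Q
  ord : orderOf z = p
  central : ∀ h : H, h * z = z * h
  comm : ∀ x ∈ Q, ∀ y ∈ Q, x * y * x⁻¹ * y⁻¹ ∈ Subgroup.zpowers z
  pow : ∀ x ∈ Q, x ^ p ∈ Subgroup.zpowers z
  nd : ∀ x ∈ Q, (∀ y ∈ Q, x * y = y * x) → x ∈ Subgroup.zpowers z

/-- `V = Q / ⟨z⟩` with its form and the action of `H` -/
structure XData {H : Type u} [Group H] (p : ℕ) (Q : Subgroup H) (z : H) : Type (u + 1) where
  V : Type u
  [acg : AddCommGroup V]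
  [mod : Module (ZMod p) V]
  [fin : Finite V]
  cls : Q → V
  surj : Function.Surjective cls
  cls_mul : ∀ x y, cls (x * y) = cls x + cls y
  cls_eq : ∀ x y : Q, cls x = cls y ↔ (x : H)⁻¹ * y ∈ Subgroup.zpowers z
  ω : LinearMap.BilinForm (ZMod p) V
  ω_cls : ∀ x y : Q, (x : H) * y * (x : H)⁻¹ * (y : H)⁻¹ = ez p z (ω (cls x) (cls y))
  L : H → V ≃ₗ[ZMod p] V
  L_cls : ∀ (g : H) (x y : Q), (y : H) = g * x * g⁻¹ → L g (cls x) = cls y

section Main

variable {H : Type u} [Group H] {p : ℕ} [hp : Fact p.Prime] {Q : Subgroup H} {z : H}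

omit hp in
theorem XS.zc (h : XS p Q z) {ζ : H} (hζ : ζ ∈ Subgroup.zpowers z) (g : H) : g * ζ = ζ * g := by
  obtain ⟨n, rfl⟩ := hζ
  exact ((show Commute g z from h.central g).zpow_right n).eq

omit hp in
theorem XS.normal_zpowers (h : XS p Q z) : (Subgroup.zpowers z).Normal := by
  constructor
  intro n hn g
  rw [h.zc hn g, mul_assoc, mul_inv_cancel, mul_one]
  exact hn

omit hp in
theorem XS.conj_mem (h : XS p Q z) {x : H} (hx : x ∈ Q) (g : H) : g * x * g⁻¹ ∈ Q :=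
  h.normal.conj_mem x hx g

omit hp in
theorem XS.z_le (h : XS p Q z) : Subgroup.zpowers z ≤ Q := by
  rw [Subgroup.zpowers_le]; exact h.mem

theorem XS.exists_xdata (h : XS p Q z) [Finite Q] : Nonempty (XData p Q z) := by
  classical
  have hn := h.normal
  have ho := h.ord
  let N : Subgroup Q := (Subgroup.zpowers z).subgroupOf Q
  have hN : ∀ x : Q, x ∈ N ↔ (x : H) ∈ Subgroup.zpowers z := fun x => Subgroup.mem_subgroupOf
  have hNn : N.Normal := by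
    have := h.normal_zpowers
    exact Subgroup.normal_subgroupOf
  let _ : CommGroup (Q ⧸ N) := { (inferInstance : Group (Q ⧸ N)) with
    mul_comm := by
      intro u v
      induction u using QuotientGroup.induction_on with | _ x => ?_
      induction v using QuotientGroup.induction_on with | _ y => ?_
      rw [← QuotientGroup.mk_mul, ← QuotientGroup.mk_mul, QuotientGroup.eq, hN]
      simp only [Subgroup.coe_mul, Subgroup.coe_inv]
      have e : ((x : H) * y)⁻¹ * (y * x) = (y : H)⁻¹ * (x : H)⁻¹ * (y : H)⁻¹⁻¹ * (x : H)⁻¹⁻¹ := by group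
      rw [e]
      exact h.comm _ (Q.inv_mem y.2) _ (Q.inv_mem x.2) }
  let V := Additive (Q ⧸ N)
  let mk : Q → V := fun x => Additive.ofMul (QuotientGroup.mk x)
  have hsurj : Function.Surjective mk := by
    intro v
    obtain ⟨x, hx⟩ := QuotientGroup.mk_surjective (Additive.toMul v)
    exact ⟨x, by show Additive.ofMul _ = v; rw [hx]; rfl⟩
  have mk_mul : ∀ x y, mk (x * y) = mk x + mk y := fun x y => rfl
  have mk_eq : ∀ x y : Q, mk x = mk y ↔ (x : H)⁻¹ * y ∈ Subgroup.zpowers z := by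
    intro x y
    have : mk x = mk y ↔ (QuotientGroup.mk x : Q ⧸ N) = QuotientGroup.mk y := Iff.rfl
    rw [this, QuotientGroup.eq, hN]
    simp only [Subgroup.coe_mul, Subgroup.coe_inv]
  have hpow : ∀ (x : Q) (n : ℕ), n • mk x = mk (x ^ n) := by
    intro x n
    induction n with
    | zero => rw [zero_nsmul, pow_zero]; rfl
    | succ n ih => rw [succ_nsmul, ih, pow_succ, mk_mul]
  have hpV : ∀ v : V, p • v = 0 := by
    intro v
    obtain ⟨x, rfl⟩ := hsurj v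
    rw [hpow]
    have h1 : mk (1 : Q) = 0 := rfl
    rw [← h1, eq_comm, mk_eq]
    simp only [Subgroup.coe_pow, Subgroup.coe_one, inv_one, one_mul]
    exact h.pow x x.2
  let _ : Module (ZMod p) V := AddCommGroup.zmodModule hpV
  -- the form
  let f : Q → Q → ZMod p := fun x y => lg p z ((x : H) * y * (x : H)⁻¹ * (y : H)⁻¹)
  have hf : ∀ x y : Q, ez p z (f x y) = (x : H) * y * (x : H)⁻¹ * (y : H)⁻¹ := fun x y =>
    ez_lg ho (h.comm x x.2 y y.2)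
  have fl : ∀ x x' y : Q, f (x * x') y = f x y + f x' y := by
    intro x x' y
    apply ez_inj (z := z) ho
    rw [ez_add ho, hf, hf, hf]
    have h1 := h.zc (h.comm x' x'.2 y y.2)
    simp only [Subgroup.coe_mul]
    calc (x : H) * x' * y * ((x : H) * x')⁻¹ * (y : H)⁻¹
        = (x : H) * ((x' : H) * y * (x' : H)⁻¹ * (y : H)⁻¹) * (y * (x : H)⁻¹ * (y : H)⁻¹) := by group
      _ = ((x' : H) * y * (x' : H)⁻¹ * (y : H)⁻¹) * (x * (y * (x : H)⁻¹ * (y : H)⁻¹)) := by rw [h1]; group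
      _ = (x * (y * (x : H)⁻¹ * (y : H)⁻¹)) * ((x' : H) * y * (x' : H)⁻¹ * (y : H)⁻¹) := (h1 _).symm
      _ = _ := by group
  have fa : ∀ x y : Q, f y x = - f x y := by
    intro x y
    apply ez_inj (z := z) ho
    rw [ez_neg ho, hf, hf]
    group
  have fr : ∀ x y y' : Q, f x (y * y') = f x y + f x y' := by
    intro x y y'
    rw [fa (y * y') x, fl, fa x y, fa x y']
    ring
  have fN : ∀ n ∈ N, ∀ y : Q, f n y = 0 := by
    intro n hn y
    apply ez_inj (z := z) ho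
    rw [ez_zero, hf, ← h.zc ((hN n).1 hn) y]
    group
  have fN' : ∀ n ∈ N, ∀ y : Q, f y n = 0 := by
    intro n hn y
    rw [fa n y, fN n hn, neg_zero]
  choose sec hsec using hsurj
  let w : V → V → ZMod p := fun u v => f (sec u) (sec v)
  have hw : ∀ x y, w (mk x) (mk y) = f x y := by
    intro x y
    have h1 := (mk_eq x (sec (mk x))).1 (hsec (mk x)).symm
    have h2 := (mk_eq y (sec (mk y))).1 (hsec (mk y)).symm
    obtain ⟨n, hn, e1⟩ : ∃ n ∈ N, sec (mk x) = x * n := ⟨x⁻¹ * sec (mk x), (hN _).2 h1, by group⟩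
    obtain ⟨m, hm, e2⟩ : ∃ m ∈ N, sec (mk y) = y * m := ⟨y⁻¹ * sec (mk y), (hN _).2 h2, by group⟩
    show f (sec (mk x)) (sec (mk y)) = f x y
    rw [e1, e2, fl, fr, fN n hn, fN' m hm, add_zero, add_zero]
  have wl : ∀ u v v', w (u + v) v' = w u v' + w v v' := by
    intro u v v'
    obtain ⟨x, rfl⟩ : ∃ x, mk x = u := ⟨_, hsec u⟩
    obtain ⟨y, rfl⟩ : ∃ x, mk x = v := ⟨_, hsec v⟩
    obtain ⟨y', rfl⟩ : ∃ x, mk x = v' := ⟨_, hsec v'⟩
    rw [← mk_mul, hw, hw, hw, fl]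
  have wr : ∀ u v v', w u (v + v') = w u v + w u v' := by
    intro u v v'
    obtain ⟨x, rfl⟩ : ∃ x, mk x = u := ⟨_, hsec u⟩
    obtain ⟨y, rfl⟩ : ∃ x, mk x = v := ⟨_, hsec v⟩
    obtain ⟨y', rfl⟩ : ∃ x, mk x = v' := ⟨_, hsec v'⟩
    rw [← mk_mul, hw, hw, hw, fr]
  let ω : LinearMap.BilinForm (ZMod p) V := LinearMap.mk₂ (ZMod p) w wl
    (by
      intro c u v
      exact ZMod.map_smul (AddMonoidHom.mk' (fun u => w u v) (fun a b => wl a b v)) c u)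
    wr
    (by
      intro c u v
      exact ZMod.map_smul (AddMonoidHom.mk' (fun v => w u v) (fun a b => wr u a b)) c v)
  -- the action
  have hmap : ∀ g : H, N.map (MulAut.conjNormal g : Q ≃* Q).toMonoidHom = N := by
    intro g
    have hfix : ∀ x ∈ N, (MulAut.conjNormal g : Q ≃* Q) x = x := by
      intro x hx
      apply Subtype.ext
      rw [MulAut.conjNormal_apply, h.zc ((hN x).1 hx) g, mul_assoc, mul_inv_cancel, mul_one]
    apply le_antisymm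
    · rintro _ ⟨x, hx, rfl⟩
      show (MulAut.conjNormal g : Q ≃* Q) x ∈ N
      rw [hfix x hx]; exact hx
    · intro x hx
      exact ⟨x, hx, hfix x hx⟩
  let Lm : H → (Q ⧸ N) ≃* (Q ⧸ N) := fun g => QuotientGroup.congr N N (MulAut.conjNormal g) (hmap g)
  let La : H → V ≃+ V := fun g => MulEquiv.toAdditive (Lm g)
  let L : H → V ≃ₗ[ZMod p] V := fun g => (La g).toLinearEquiv (fun c x => ZMod.map_smul (La g) c x)
  exact ⟨{
    V := V
    cls := mk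
    surj := fun v => ⟨sec v, hsec v⟩
    cls_mul := mk_mul
    cls_eq := mk_eq
    ω := ω
    ω_cls := fun x y => by
      show _ = ez p z (w (mk x) (mk y))
      rw [hw, hf]
    L := L
    L_cls := by
      intro g x y hy
      have : y = MulAut.conjNormal g x := Subtype.ext (by rw [hy, MulAut.conjNormal_apply])
      rw [this]
      rfl
    fin := inferInstanceAs (Finite (Q ⧸ N)) }⟩

/-- the elements of `Q` fixed by `a` modulo `⟨z⟩` -/
def FixX (Q : Subgroup H) (z a : H) : Type _ := {x : Q // a * x * a⁻¹ * (x : H)⁻¹ ∈ Subgroup.zpowers z}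

/-- **The extraspecial coset lemma for products, `p` odd.** -/
theorem XS.prod_step (hp2 : p ≠ 2) (h : XS p Q z) [Finite Q] {a b x : H} (hcov : Cov a b Q (Subgroup.zpowers z))
    (hx : x ∈ Q) (hle : Nat.card (FixX Q z a) * Nat.card (FixX Q z b) * Nat.card (FixX Q z (a * b)) ≤ Nat.card Q) :
    ∃ u ∈ Q, ∃ w ∈ Q, (u * a * u⁻¹) * (w * b * w⁻¹) = a * b * x := by
  classical
  have hn := h.normal
  have hzn := h.normal_zpowers
  have ho := h.ord
  obtain ⟨u₀, hu₀, w₀, hw₀, h0⟩ := step hcov hx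
  obtain ⟨k, hk⟩ := exists_ez ho h0
  obtain ⟨a₁, ha₁⟩ : ∃ a₁, a₁ = u₀ * a * u₀⁻¹ := ⟨_, rfl⟩
  obtain ⟨b₁, hb₁⟩ : ∃ b₁, b₁ = w₀ * b * w₀⁻¹ := ⟨_, rfl⟩
  rw [← ha₁, ← hb₁] at hk
  have hc : a₁ * b₁ * ez p z k = a * b * x := by rw [hk]; group
  -- the function Φ
  let Φ : Q → Q → H := fun r₁ r₂ => (r₁ * (a₁ * r₁ * a₁⁻¹)⁻¹) * ((a₁ * r₂ * a₁⁻¹) * ((a₁ * b₁) * r₂ * (a₁ * b₁)⁻¹)⁻¹)
  have hΦ : ∀ r₁ r₂ : Q, (r₁ * a₁ * (r₁ : H)⁻¹) * (r₂ * b₁ * (r₂ : H)⁻¹) = Φ r₁ r₂ * (a₁ * b₁) := by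
    intro r₁ r₂
    show _ = (r₁ * (a₁ * r₁ * a₁⁻¹)⁻¹) * ((a₁ * r₂ * a₁⁻¹) * ((a₁ * b₁) * r₂ * (a₁ * b₁)⁻¹)⁻¹) * (a₁ * b₁)
    group
  obtain ⟨D⟩ := h.exists_xdata
  let _ := D.acg
  let _ := D.mod
  have hfin := D.fin
  have : FiniteDimensional (ZMod p) D.V := Module.Finite.of_finite
  let Kc : H → Q → Q := fun g x => ⟨g * x * g⁻¹, h.conj_mem x.2 g⟩
  have hL : ∀ g x, D.L g (D.cls x) = D.cls (Kc g x) := fun g x => D.L_cls g x _ rfl
  have h00 : D.cls 1 = 0 := by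
    have := D.cls_mul 1 1
    rw [mul_one] at this
    have h2 : D.cls 1 + 0 = D.cls 1 + D.cls 1 := by rw [add_zero]; exact this
    exact (add_left_cancel h2).symm
  have hinv : ∀ x : Q, D.cls x⁻¹ = - D.cls x := by
    intro x
    rw [eq_neg_iff_add_eq_zero, ← D.cls_mul, inv_mul_cancel, h00]
  have h0mem : ∀ y : Q, D.cls y = 0 → (y : H) ∈ Subgroup.zpowers z := by
    intro y hy
    rw [← h00, eq_comm, D.cls_eq] at hy
    simpa using hy
  have hnd : ∀ v, (∀ u, D.ω u v = 0) → v = 0 := by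
    intro v hv
    obtain ⟨y, rfl⟩ := D.surj v
    have h1 := h.nd y y.2 (fun w hw => by
      have h2 := D.ω_cls ⟨w, hw⟩ y
      rw [hv, ez_zero] at h2
      have h3 : (w : H) * y = y * w := by
        have h4 : (w : H) * y * w⁻¹ = y := mul_inv_eq_one.1 h2
        rw [mul_inv_eq_iff_eq_mul] at h4
        exact h4
      exact h3.symm)
    rw [← h00, eq_comm, D.cls_eq]
    simpa using h1
  have hLm : ∀ g k' v, D.L (g * k') v = D.L g (D.L k' v) := by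
    intro g k' v
    obtain ⟨x, rfl⟩ := D.surj v
    rw [hL, hL, hL]
    congr 1
    apply Subtype.ext
    show g * k' * x * (g * k')⁻¹ = g * (k' * x * k'⁻¹) * g⁻¹
    group
  -- elements of `Q` act trivially
  have hLQ : ∀ y ∈ Q, ∀ v, D.L y v = v := by
    intro y hy v
    obtain ⟨x, rfl⟩ := D.surj v
    rw [hL, eq_comm, D.cls_eq]
    show (x : H)⁻¹ * (y * x * y⁻¹) ∈ _
    have e : (x : H)⁻¹ * (y * x * y⁻¹) = (x : H)⁻¹ * y * (x : H)⁻¹⁻¹ * y⁻¹ := by group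
    rw [e]
    exact h.comm _ (Q.inv_mem x.2) y hy
  have hLa : ∀ v, D.L a₁ v = D.L a v := by
    intro v
    rw [ha₁, hLm, hLm, hLQ _ (Q.inv_mem hu₀), hLQ _ hu₀]
  have hLb : ∀ v, D.L b₁ v = D.L b v := by
    intro v
    rw [hb₁, hLm, hLm, hLQ _ (Q.inv_mem hw₀), hLQ _ hw₀]
  have hLab : ∀ v, D.L (a₁ * b₁) v = D.L (a * b) v := by
    intro v
    rw [hLm, hLm, hLa, hLb]
  let α : D.V →ₗ[ZMod p] D.V := (D.L a₁ : D.V →ₗ[ZMod p] D.V)
  let β : D.V →ₗ[ZMod p] D.V := (D.L b₁ : D.V →ₗ[ZMod p] D.V)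
  let γ : D.V →ₗ[ZMod p] D.V := (D.L (a₁ * b₁) : D.V →ₗ[ZMod p] D.V)
  have hα : ∀ v, α v = D.L a₁ v := fun v => rfl
  have hβ : ∀ v, β v = D.L b₁ v := fun v => rfl
  have hγ : ∀ v, γ v = D.L (a₁ * b₁) v := fun v => rfl
  have hαβ : ∀ v, γ v = α (β v) := fun v => hLm a₁ b₁ v
  -- surjectivity
  have hsurj : Function.Surjective (phi α γ) := by
    intro w
    obtain ⟨w', hw'⟩ : ∃ w', D.L a₁ w' = w := ⟨(D.L a₁).symm w, (D.L a₁).apply_symm_apply w⟩
    obtain ⟨y, rfl⟩ := D.surj w'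
    obtain ⟨p₁, hp₁, p₂, hp₂, e⟩ := hcov y y.2
    have e2 : D.cls y = (D.cls ⟨p₁, hp₁⟩ - D.L a (D.cls ⟨p₁, hp₁⟩)) + (D.cls ⟨p₂, hp₂⟩ - D.L b (D.cls ⟨p₂, hp₂⟩)) := by
      have e3 : D.cls y = D.cls ((⟨p₁, hp₁⟩ * (Kc a ⟨p₁, hp₁⟩)⁻¹) * (⟨p₂, hp₂⟩ * (Kc b ⟨p₂, hp₂⟩)⁻¹)) := by
        rw [D.cls_eq]
        show (y : H)⁻¹ * ((p₁ * (a * p₁ * a⁻¹)⁻¹) * (p₂ * (b * p₂ * b⁻¹)⁻¹)) ∈ _
        have e4 : (p₁ * (a * p₁ * a⁻¹)⁻¹) * (p₂ * (b * p₂ * b⁻¹)⁻¹) = ⁅p₁, a⁆ * ⁅p₂, b⁆ := by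
          simp only [commutatorElement_def]; group
        rw [e4]
        exact e
      rw [e3, D.cls_mul, D.cls_mul, D.cls_mul, hinv, hinv, hL, hL, ← sub_eq_add_neg, ← sub_eq_add_neg]
    refine ⟨(D.L a₁ (D.cls ⟨p₁, hp₁⟩), D.cls ⟨p₂, hp₂⟩), ?_⟩
    rw [phi_apply, hα, hα, hγ, hLm, ← hw', e2, hLb]
    simp only [map_add, map_sub, hLa]
  -- the kernel
  let S := LinearMap.ker (phi α γ)
  let i₁ : S →ₗ[ZMod p] D.V := (LinearMap.fst (ZMod p) D.V D.V).comp S.subtype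
  let i₂ : S →ₗ[ZMod p] D.V := (LinearMap.snd (ZMod p) D.V D.V).comp S.subtype
  have hi₁ : ∀ s : S, i₁ s = s.1.1 := fun s => rfl
  have hi₂ : ∀ s : S, i₂ s = s.1.2 := fun s => rfl
  have hrel : ∀ r : S, (i₁ r - α (i₁ r)) + (α (i₂ r) - γ (i₂ r)) = 0 := fun r => r.2
  have hmem : ∀ r₁ r₂ : Q, Φ r₁ r₂ ∈ Q := by
    intro r₁ r₂
    exact ((r₁ * (Kc a₁ r₁)⁻¹) * (Kc a₁ r₂ * (Kc (a₁ * b₁) r₂)⁻¹) : Q).2
  have hsum : ∀ r₁ r₂ : Q, D.cls ⟨Φ r₁ r₂, hmem r₁ r₂⟩ = (D.cls r₁ - α (D.cls r₁)) + (α (D.cls r₂) - γ (D.cls r₂)) := by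
    intro r₁ r₂
    have e1 : (⟨Φ r₁ r₂, hmem r₁ r₂⟩ : Q) = (r₁ * (Kc a₁ r₁)⁻¹) * (Kc a₁ r₂ * (Kc (a₁ * b₁) r₂)⁻¹) := Subtype.ext rfl
    rw [e1, D.cls_mul, D.cls_mul, D.cls_mul, hinv, hinv, hα, hα, hγ, hL, hL, hL, ← sub_eq_add_neg, ← sub_eq_add_neg]
  have hz : ∀ r₁ r₂ : Q, (D.cls r₁ - α (D.cls r₁)) + (α (D.cls r₂) - γ (D.cls r₂)) = 0 →
      Φ r₁ r₂ ∈ Subgroup.zpowers z := by
    intro r₁ r₂ h'
    exact h0mem ⟨Φ r₁ r₂, hmem r₁ r₂⟩ (by rw [hsum]; exact h')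
  -- multiplicativity
  have key : ∀ r₁ r₂ q₁ q₂ : Q, (D.cls r₁ - α (D.cls r₁)) + (α (D.cls r₂) - γ (D.cls r₂)) = 0 →
      (D.cls q₁ - α (D.cls q₁)) + (α (D.cls q₂) - γ (D.cls q₂)) = 0 →
      Φ (r₁ * q₁) (r₂ * q₂) = Φ r₁ r₂ * Φ q₁ q₂ *
        ez p z (D.ω (D.cls r₂ - D.cls r₁) (D.cls q₂ - β (D.cls q₂))) := by
    intro r₁ r₂ q₁ q₂ hr hq
    obtain ⟨m₀, hm₀⟩ : ∃ m₀ : Q, m₀ = r₁⁻¹ * r₂ := ⟨_, rfl⟩
    obtain ⟨B₀, hB₀⟩ : ∃ B₀ : Q, B₀ = q₂ * (Kc b₁ q₂)⁻¹ := ⟨_, rfl⟩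
    have c1 : D.cls m₀ = D.cls r₂ - D.cls r₁ := by
      rw [hm₀, D.cls_mul, hinv, neg_add_eq_sub]
    have c2 : D.cls B₀ = D.cls q₂ - β (D.cls q₂) := by
      rw [hB₀, D.cls_mul, hinv, hβ, hL, ← sub_eq_add_neg]
    have c3 := D.ω_cls m₀⁻¹ B₀⁻¹
    rw [hinv, hinv, map_neg, map_neg, LinearMap.neg_apply, neg_neg, c1, c2] at c3
    rw [← c3]
    have z1 := h.zc (hz q₁ q₂ hq)
    have z2 : ∀ g : H, g * (((m₀⁻¹ : Q) : H) * ((B₀⁻¹ : Q) : H) * (((m₀⁻¹ : Q) : H))⁻¹ * (((B₀⁻¹ : Q) : H))⁻¹) =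
        (((m₀⁻¹ : Q) : H) * ((B₀⁻¹ : Q) : H) * (((m₀⁻¹ : Q) : H))⁻¹ * (((B₀⁻¹ : Q) : H))⁻¹) * g := by
      intro g
      rw [c3]
      exact ez_comm h.central _ g
    obtain ⟨κ, hκ⟩ : ∃ κ, κ = ((m₀⁻¹ : Q) : H) * ((B₀⁻¹ : Q) : H) * (((m₀⁻¹ : Q) : H))⁻¹ * (((B₀⁻¹ : Q) : H))⁻¹ :=
      ⟨_, rfl⟩
    rw [← hκ] at z2 ⊢
    obtain ⟨r, hr'⟩ : ∃ t, t = (r₁ : H) := ⟨_, rfl⟩
    obtain ⟨r', hr''⟩ : ∃ t, t = (r₂ : H) := ⟨_, rfl⟩
    obtain ⟨q, hq'⟩ : ∃ t, t = (q₁ : H) := ⟨_, rfl⟩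
    obtain ⟨q', hq''⟩ : ∃ t, t = (q₂ : H) := ⟨_, rfl⟩
    have m1 : (m₀ : H) = r⁻¹ * r' := by rw [hm₀, hr', hr'']; rfl
    have m2 : (B₀ : H) = q' * (b₁ * q' * b₁⁻¹)⁻¹ := by rw [hB₀, hq'']; rfl
    have m3 : κ = (r⁻¹ * r')⁻¹ * (q' * (b₁ * q' * b₁⁻¹)⁻¹)⁻¹ * (r⁻¹ * r') * (q' * (b₁ * q' * b₁⁻¹)⁻¹) := by
      rw [hκ, Subgroup.coe_inv, Subgroup.coe_inv, m1, m2, inv_inv, inv_inv]
    have p1 : Φ q₁ q₂ = (q * (a₁ * q * a₁⁻¹)⁻¹) * ((a₁ * q' * a₁⁻¹) * ((a₁ * b₁) * q' * (a₁ * b₁)⁻¹)⁻¹) := by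
      rw [hq', hq'']
    have p2 : Φ r₁ r₂ = (r * (a₁ * r * a₁⁻¹)⁻¹) * ((a₁ * r' * a₁⁻¹) * ((a₁ * b₁) * r' * (a₁ * b₁)⁻¹)⁻¹) := by
      rw [hr', hr'']
    have p3 : Φ (r₁ * q₁) (r₂ * q₂) = ((r * q) * (a₁ * (r * q) * a₁⁻¹)⁻¹) *
        ((a₁ * (r' * q') * a₁⁻¹) * ((a₁ * b₁) * (r' * q') * (a₁ * b₁)⁻¹)⁻¹) := by
      rw [hr', hr'', hq', hq'']; rfl
    have e1 : Φ (r₁ * q₁) (r₂ * q₂) = r * Φ q₁ q₂ * (a₁ * ((r⁻¹ * r') * κ) * a₁⁻¹) * (a₁ * r' * a₁⁻¹)⁻¹ *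
        (a₁ * (r' * (b₁ * r' * b₁⁻¹)⁻¹) * a₁⁻¹) := by
      rw [p3, p1, m3]
      group
    have e2 : a₁ * ((r⁻¹ * r') * κ) * a₁⁻¹ = κ * (a₁ * (r⁻¹ * r') * a₁⁻¹) := by
      calc a₁ * ((r⁻¹ * r') * κ) * a₁⁻¹ = (a₁ * (r⁻¹ * r')) * κ * a₁⁻¹ := by group
        _ = κ * (a₁ * (r⁻¹ * r')) * a₁⁻¹ := by rw [z2]
        _ = _ := by group
    rw [e1, e2]
    calc r * Φ q₁ q₂ * (κ * (a₁ * (r⁻¹ * r') * a₁⁻¹)) * (a₁ * r' * a₁⁻¹)⁻¹ *
          (a₁ * (r' * (b₁ * r' * b₁⁻¹)⁻¹) * a₁⁻¹)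
        = Φ q₁ q₂ * (r * κ) * (a₁ * (r⁻¹ * r') * a₁⁻¹) * (a₁ * r' * a₁⁻¹)⁻¹ *
          (a₁ * (r' * (b₁ * r' * b₁⁻¹)⁻¹) * a₁⁻¹) := by rw [z1]; group
      _ = Φ q₁ q₂ * (κ * r) * (a₁ * (r⁻¹ * r') * a₁⁻¹) * (a₁ * r' * a₁⁻¹)⁻¹ *
          (a₁ * (r' * (b₁ * r' * b₁⁻¹)⁻¹) * a₁⁻¹) := by rw [z2]
      _ = Φ q₁ q₂ * (κ * Φ r₁ r₂) := by rw [p2]; group
      _ = Φ q₁ q₂ * (Φ r₁ r₂ * κ) := by rw [z2]
      _ = (Φ q₁ q₂ * Φ r₁ r₂) * κ := (mul_assoc _ _ _).symm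
      _ = (Φ r₁ r₂ * Φ q₁ q₂) * κ := by rw [z1]
  -- lifts
  have hlift : ∀ r₁ r₂ r₁' r₂' : Q, D.cls r₁ = D.cls r₁' → D.cls r₂ = D.cls r₂' → Φ r₁ r₂ = Φ r₁' r₂' := by
    intro r₁ r₂ r₁' r₂' e1 e2
    rw [D.cls_eq] at e1 e2
    have z1 := h.zc e1
    have z2 := h.zc e2
    obtain ⟨ζ, hζ⟩ : ∃ ζ, ζ = (r₁ : H)⁻¹ * r₁' := ⟨_, rfl⟩
    obtain ⟨ξ, hξ⟩ : ∃ ξ, ξ = (r₂ : H)⁻¹ * r₂' := ⟨_, rfl⟩
    rw [← hζ] at z1
    rw [← hξ] at z2
    have f1 : (r₁' : H) = r₁ * ζ := by rw [hζ]; group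
    have f2 : (r₂' : H) = r₂ * ξ := by rw [hξ]; group
    show (r₁ * (a₁ * r₁ * a₁⁻¹)⁻¹) * ((a₁ * r₂ * a₁⁻¹) * ((a₁ * b₁) * r₂ * (a₁ * b₁)⁻¹)⁻¹) =
      (r₁' * (a₁ * r₁' * a₁⁻¹)⁻¹) * ((a₁ * r₂' * a₁⁻¹) * ((a₁ * b₁) * r₂' * (a₁ * b₁)⁻¹)⁻¹)
    rw [f1, f2]
    have g1 : (r₁ : H) * ζ * (a₁ * (r₁ * ζ) * a₁⁻¹)⁻¹ = r₁ * (a₁ * r₁ * a₁⁻¹)⁻¹ := by
      calc (r₁ : H) * ζ * (a₁ * (r₁ * ζ) * a₁⁻¹)⁻¹ = r₁ * ((ζ * a₁) * ζ⁻¹) * (r₁ : H)⁻¹ * a₁⁻¹ := by group
        _ = r₁ * ((a₁ * ζ) * ζ⁻¹) * (r₁ : H)⁻¹ * a₁⁻¹ := by rw [z1]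
        _ = _ := by group
    have g2 : a₁ * ((r₂ : H) * ξ) * a₁⁻¹ * (a₁ * b₁ * (r₂ * ξ) * (a₁ * b₁)⁻¹)⁻¹ =
        a₁ * r₂ * a₁⁻¹ * (a₁ * b₁ * r₂ * (a₁ * b₁)⁻¹)⁻¹ := by
      calc a₁ * ((r₂ : H) * ξ) * a₁⁻¹ * (a₁ * b₁ * (r₂ * ξ) * (a₁ * b₁)⁻¹)⁻¹
          = a₁ * r₂ * ((ξ * b₁) * ξ⁻¹) * (r₂ : H)⁻¹ * b₁⁻¹ * a₁⁻¹ := by group
        _ = a₁ * r₂ * ((b₁ * ξ) * ξ⁻¹) * (r₂ : H)⁻¹ * b₁⁻¹ * a₁⁻¹ := by rw [z2]
        _ = _ := by group
    rw [g1, g2]
  choose sec hsec using D.surj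
  let F : S → ZMod p := fun s => lg p z (Φ (sec s.1.1) (sec s.1.2))
  have hF : ∀ s : S, ez p z (F s) = Φ (sec s.1.1) (sec s.1.2) := by
    intro s
    exact ez_lg ho (hz _ _ (by rw [hsec, hsec]; exact s.2))
  have hF2 : ∀ r q : S, F (r + q) = F r + F q + bet D.ω β i₁ i₂ r q := by
    intro r q
    apply ez_inj (z := z) ho
    rw [ez_add ho, ez_add ho, hF, hF, hF]
    have h1 := key (sec r.1.1) (sec r.1.2) (sec q.1.1) (sec q.1.2)
      (by rw [hsec, hsec]; exact r.2) (by rw [hsec, hsec]; exact q.2)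
    rw [hsec, hsec, hsec] at h1
    rw [bet_apply, hi₂, hi₁, hi₂, ← h1]
    apply hlift
    · rw [hsec, D.cls_mul, hsec, hsec]; rfl
    · rw [hsec, D.cls_mul, hsec, hsec]; rfl
  -- cardinalities
  have hQV : Nat.card Q ≤ p * Nat.card D.V := by
    have h1 : Nat.card Q ≤ Nat.card (D.V × ZMod p) := by
      refine Nat.card_le_card_of_injective
        (fun x : Q => (D.cls x, lg p z (((sec (D.cls x) : Q) : H)⁻¹ * x))) ?_
      intro x y hxy
      have h2 : D.cls x = D.cls y := congrArg Prod.fst hxy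
      have h3 : lg p z (((sec (D.cls x) : Q) : H)⁻¹ * x) = lg p z (((sec (D.cls y) : Q) : H)⁻¹ * y) :=
        congrArg Prod.snd hxy
      have h4 := ez_lg ho ((D.cls_eq (sec (D.cls x)) x).1 (hsec _))
      have h5 := ez_lg ho ((D.cls_eq (sec (D.cls y)) y).1 (hsec _))
      rw [h3, h5, h2] at h4
      exact Subtype.ext (mul_left_cancel h4).symm
    rw [Nat.card_prod, Nat.card_zmod, mul_comm] at h1
    exact h1
  have hfix : ∀ g : H, p * Nat.card (LinearMap.ker (LinearMap.id - (D.L g : D.V →ₗ[ZMod p] D.V))) ≤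
      Nat.card (FixX Q z g) := by
    intro g
    have hfi : Finite (FixX Q z g) := by unfold FixX; infer_instance
    have hmf : ∀ y : Q, D.cls y ∈ LinearMap.ker (LinearMap.id - (D.L g : D.V →ₗ[ZMod p] D.V)) →
        g * y * g⁻¹ * (y : H)⁻¹ ∈ Subgroup.zpowers z := by
      intro y hy
      rw [LinearMap.mem_ker] at hy
      have h1 : D.cls y - D.L g (D.cls y) = 0 := hy
      rw [hL, sub_eq_zero, D.cls_eq] at h1
      have h2 := h.zc h1 y
      have h3 : g * y * g⁻¹ * (y : H)⁻¹ = (y : H)⁻¹ * (g * y * g⁻¹) := by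
        have h4 : (y : H) * ((y : H)⁻¹ * (g * y * g⁻¹)) = ((y : H)⁻¹ * (g * y * g⁻¹)) * y := h2
        rw [mul_inv_cancel_left] at h4
        rw [mul_inv_eq_iff_eq_mul]
        exact h4
      rw [h3]
      exact h1
    have hzc : ∀ k' : ZMod p, D.cls ⟨ez p z k', h.z_le (ez_mem k')⟩ = 0 := by
      intro k'
      rw [← h00, eq_comm, D.cls_eq]
      show ((1 : Q) : H)⁻¹ * ez p z k' ∈ _
      rw [Subgroup.coe_one, inv_one, one_mul]
      exact ez_mem k'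
    have hcl : ∀ (v : D.V) (ε : ZMod p), D.cls (sec v * ⟨ez p z ε, h.z_le (ez_mem ε)⟩) = v := by
      intro v ε
      rw [D.cls_mul, hsec, hzc, add_zero]
    have h1 : Nat.card (LinearMap.ker (LinearMap.id - (D.L g : D.V →ₗ[ZMod p] D.V)) × ZMod p) ≤
        Nat.card (FixX Q z g) := by
      refine Nat.card_le_card_of_injective
        (fun t => (⟨sec t.1 * ⟨ez p z t.2, h.z_le (ez_mem t.2)⟩, hmf _ (by rw [hcl]; exact t.1.2)⟩ :
          FixX Q z g)) ?_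
      rintro ⟨v, ε⟩ ⟨v', ε'⟩ ht
      have h2 : sec v * ⟨ez p z ε, h.z_le (ez_mem ε)⟩ = sec v' * ⟨ez p z ε', h.z_le (ez_mem ε')⟩ :=
        congrArg Subtype.val ht
      have h3 : (v : D.V) = v' := by
        have := congrArg D.cls h2
        rwa [hcl, hcl] at this
      have h4 : v = v' := Subtype.ext h3
      subst h4
      have h5 := congrArg Subtype.val (mul_left_cancel h2)
      have h6 : ε = ε' := ez_inj ho h5
      rw [h6]
    rw [Nat.card_prod, Nat.card_zmod, mul_comm] at h1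
    exact h1
  have hcard : ∀ W : Submodule (ZMod p) D.V, Nat.card W = p ^ finrank (ZMod p) W := by
    intro W
    have := Module.natCard_eq_pow_finrank (K := ZMod p) (V := W)
    rwa [Nat.card_zmod] at this
  have hcV : Nat.card D.V = p ^ finrank (ZMod p) D.V := by
    have := Module.natCard_eq_pow_finrank (K := ZMod p) (V := D.V)
    rwa [Nat.card_zmod] at this
  have hf1 := hfix a
  have hf2 := hfix b
  have hf3 := hfix (a * b)
  rw [hcard] at hf1 hf2 hf3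
  rw [hcV] at hQV
  have eα : α = (D.L a : D.V →ₗ[ZMod p] D.V) := LinearMap.ext hLa
  have eβ : β = (D.L b : D.V →ₗ[ZMod p] D.V) := LinearMap.ext hLb
  have eγ : γ = (D.L (a * b) : D.V →ₗ[ZMod p] D.V) := LinearMap.ext hLab
  rw [← eα] at hf1
  rw [← eβ] at hf2
  rw [← eγ] at hf3
  have hdim : finrank (ZMod p) (LinearMap.ker (LinearMap.id - α)) + finrank (ZMod p) (LinearMap.ker (LinearMap.id - β)) +
      finrank (ZMod p) (LinearMap.ker (LinearMap.id - γ)) + 2 ≤ finrank (ZMod p) D.V := by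
    have h1 : (p * p ^ finrank (ZMod p) (LinearMap.ker (LinearMap.id - α))) *
        (p * p ^ finrank (ZMod p) (LinearMap.ker (LinearMap.id - β))) *
        (p * p ^ finrank (ZMod p) (LinearMap.ker (LinearMap.id - γ))) ≤ p * p ^ finrank (ZMod p) D.V :=
      (Nat.mul_le_mul (Nat.mul_le_mul hf1 hf2) hf3).trans (hle.trans hQV)
    rw [← pow_succ', ← pow_succ', ← pow_succ', ← pow_succ', ← pow_add, ← pow_add] at h1
    have h2 := (Nat.pow_le_pow_iff_right hp.out.one_lt).1 h1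
    omega
  obtain ⟨s, hs⟩ := surj_of_rank hp2 F (bet D.ω β i₁ i₂) hF2 (by
    intro R hR
    have h1 := rank_p D.ω hnd α β γ hαβ i₁ i₂ (fun r h1 h2 => Subtype.ext (Prod.ext h1 h2)) hrel
      (finrank_ker_phi α γ hsurj) R hR
    have h2 : finrank (ZMod p) S = finrank (ZMod p) D.V := finrank_ker_phi α γ hsurj
    omega) k
  have h1 := hF s
  rw [hs] at h1
  refine ⟨sec s.1.1 * u₀, Q.mul_mem (sec s.1.1).2 hu₀, sec s.1.2 * w₀, Q.mul_mem (sec s.1.2).2 hw₀, ?_⟩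
  have e1 : ((sec s.1.1 : Q) : H) * u₀ * a * (((sec s.1.1 : Q) : H) * u₀)⁻¹ = (sec s.1.1 : Q) * a₁ * (((sec s.1.1 : Q) : H))⁻¹ := by
    rw [ha₁]; group
  have e2 : ((sec s.1.2 : Q) : H) * w₀ * b * (((sec s.1.2 : Q) : H) * w₀)⁻¹ = (sec s.1.2 : Q) * b₁ * (((sec s.1.2 : Q) : H))⁻¹ := by
    rw [hb₁]; group
  rw [e1, e2, hΦ, ← h1, ← hc, ez_comm h.central]

/-! ### corollaries -/

omit hp in
/-- **No numerical condition if `g` is conjugate to `g z` under `Q`.** -/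
theorem XS.prod_conj (h : XS p Q z) {a b x y : H} (hcov : Cov a b Q (Subgroup.zpowers z))
    (hx : x ∈ Q) (hy : y ∈ Q) (hyg : y * (a * b * x) * y⁻¹ = a * b * x * z) :
    ∃ u ∈ Q, ∃ w ∈ Q, (u * a * u⁻¹) * (w * b * w⁻¹) = a * b * x := by
  have hn := h.normal
  have hzn := h.normal_zpowers
  obtain ⟨u₀, hu₀, w₀, hw₀, n, hn'⟩ := step hcov hx
  obtain ⟨g, hg⟩ : ∃ g, g = a * b * x := ⟨_, rfl⟩
  rw [← hg] at hyg hn' ⊢
  -- `y ^ m g y ^ (-m) = g z ^ m`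
  have hz0 : Commute z y := (h.central y).symm
  have hyg' : y * g = g * z * y := by rw [← hyg]; group
  have key : ∀ m : ℕ, y ^ m * g = g * z ^ m * y ^ m := by
    intro m
    induction m with
    | zero => simp
    | succ m ih =>
      calc y ^ (m + 1) * g = y ^ m * (y * g) := by rw [pow_succ]; group
        _ = (y ^ m * g) * (z * y) := by rw [hyg']; group
        _ = g * z ^ m * (y ^ m * z) * y := by rw [ih]; group
        _ = g * z ^ m * (z * y ^ m) * y := by rw [(hz0.pow_right m).eq]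
        _ = _ := by rw [pow_succ z, pow_succ y]; group
  have key' : ∀ m : ℤ, y ^ m * g * (y ^ m)⁻¹ = g * z ^ m := by
    intro m
    rcases Int.eq_nat_or_neg m with ⟨j, rfl | rfl⟩
    · rw [zpow_natCast, zpow_natCast, key, mul_assoc, mul_inv_cancel, mul_one]
    · rw [zpow_neg, zpow_neg, zpow_natCast, zpow_natCast, inv_inv]
      have h1 := key j
      have h2 : Commute (z ^ j) (y ^ j) := (hz0.pow_right j).pow_left j
      have h3 : (y ^ j)⁻¹ * g * y ^ j * z ^ j = g := by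
        calc (y ^ j)⁻¹ * g * y ^ j * z ^ j = (y ^ j)⁻¹ * (g * (y ^ j * z ^ j)) := by group
          _ = (y ^ j)⁻¹ * (g * z ^ j * y ^ j) := by rw [← h2.eq]; group
          _ = (y ^ j)⁻¹ * (y ^ j * g) := by rw [h1]
          _ = g := by group
      exact eq_mul_inv_of_mul_eq h3
  have h1 : (u₀ * a * u₀⁻¹) * (w₀ * b * w₀⁻¹) = g * z ^ (-n) := by
    have h2 : z ^ n = ((u₀ * a * u₀⁻¹) * (w₀ * b * w₀⁻¹))⁻¹ * g := hn'
    rw [zpow_neg, h2]
    group
  rw [← key'] at h1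
  refine ⟨y ^ n * u₀, Q.mul_mem (Q.zpow_mem hy n) hu₀, y ^ n * w₀, Q.mul_mem (Q.zpow_mem hy n) hw₀, ?_⟩
  calc (y ^ n * u₀ * a * (y ^ n * u₀)⁻¹) * (y ^ n * w₀ * b * (y ^ n * w₀)⁻¹)
      = y ^ n * ((u₀ * a * u₀⁻¹) * (w₀ * b * w₀⁻¹)) * (y ^ n)⁻¹ := by group
    _ = g := by rw [h1, zpow_neg]; group

/-- `V = [V, a] + [V, b]` if `a` and `b` have no common fixed vector on `V = Q / ⟨z⟩`. -/
theorem XS.cov_of_inf (h : XS p Q z) [Finite Q] {a b : H}
    (hinf : ∀ x ∈ Q, a * x * a⁻¹ * x⁻¹ ∈ Subgroup.zpowers z → b * x * b⁻¹ * x⁻¹ ∈ Subgroup.zpowers z →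
      x ∈ Subgroup.zpowers z) : Cov a b Q (Subgroup.zpowers z) := by
  classical
  have ho := h.ord
  obtain ⟨D⟩ := h.exists_xdata
  let _ := D.acg
  let _ := D.mod
  have hfin := D.fin
  have : FiniteDimensional (ZMod p) D.V := Module.Finite.of_finite
  let Kc : H → Q → Q := fun g x => ⟨g * x * g⁻¹, h.conj_mem x.2 g⟩
  have hL : ∀ g x, D.L g (D.cls x) = D.cls (Kc g x) := fun g x => D.L_cls g x _ rfl
  have h00 : D.cls 1 = 0 := by
    have := D.cls_mul 1 1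
    rw [mul_one] at this
    have h2 : D.cls 1 + 0 = D.cls 1 + D.cls 1 := by rw [add_zero]; exact this
    exact (add_left_cancel h2).symm
  have hinv : ∀ x : Q, D.cls x⁻¹ = - D.cls x := by
    intro x
    rw [eq_neg_iff_add_eq_zero, ← D.cls_mul, inv_mul_cancel, h00]
  have hnd : ∀ v, (∀ u, D.ω u v = 0) → v = 0 := by
    intro v hv
    obtain ⟨y, rfl⟩ := D.surj v
    have h1 := h.nd y y.2 (fun w hw => by
      have h2 := D.ω_cls ⟨w, hw⟩ y
      rw [hv, ez_zero] at h2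
      have h3 : (w : H) * y = y * w := by
        have h4 : (w : H) * y * w⁻¹ = y := mul_inv_eq_one.1 h2
        rw [mul_inv_eq_iff_eq_mul] at h4
        exact h4
      exact h3.symm)
    rw [← h00, eq_comm, D.cls_eq]
    simpa using h1
  have hωi : ∀ g u v, D.ω (D.L g u) (D.L g v) = D.ω u v := by
    intro g u v
    obtain ⟨x, rfl⟩ := D.surj u
    obtain ⟨y, rfl⟩ := D.surj v
    rw [hL, hL]
    apply ez_inj (z := z) ho
    rw [← D.ω_cls, ← D.ω_cls]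
    show (g * x * g⁻¹) * (g * y * g⁻¹) * (g * x * g⁻¹)⁻¹ * (g * y * g⁻¹)⁻¹ = _
    have h1 := h.zc (h.comm x x.2 y y.2) g
    calc (g * x * g⁻¹) * (g * y * g⁻¹) * (g * x * g⁻¹)⁻¹ * (g * y * g⁻¹)⁻¹
        = g * ((x : H) * y * (x : H)⁻¹ * (y : H)⁻¹) * g⁻¹ := by group
      _ = _ := by rw [h1]; group
  obtain ⟨W, hW⟩ : ∃ W : Submodule (ZMod p) D.V,
      W = LinearMap.range (LinearMap.id - (D.L a : D.V →ₗ[ZMod p] D.V)) ⊔
        LinearMap.range (LinearMap.id - (D.L b : D.V →ₗ[ZMod p] D.V)) := ⟨_, rfl⟩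
  let η : D.V →ₗ[ZMod p] Dual (ZMod p) D.V := D.ω.flip
  have hη : ∀ v u, η v u = D.ω u v := fun v u => rfl
  have hηinj : Function.Injective η := by
    rw [injective_iff_map_eq_zero]
    intro v hv
    apply hnd
    intro u
    rw [← hη, hv, LinearMap.zero_apply]
  have hηs : Function.Surjective η :=
    (LinearMap.injective_iff_surjective_of_finrank_eq_finrank Subspace.dual_finrank_eq.symm).1 hηinj
  have hWt : W = ⊤ := by
    rw [← Subspace.dualAnnihilator_inj, Submodule.dualAnnihilator_top, eq_bot_iff]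
    intro f hf
    rw [Submodule.mem_dualAnnihilator] at hf
    obtain ⟨v, rfl⟩ := hηs f
    have hfixv : ∀ g, (∀ u, (u - D.L g u) ∈ W) → D.L g v = v := by
      intro g hg
      apply sub_eq_zero.1
      apply hnd
      intro u
      obtain ⟨u', rfl⟩ : ∃ u', D.L g u' = u := ⟨(D.L g).symm u, (D.L g).apply_symm_apply u⟩
      have h1 := hf _ (hg u')
      rw [hη, map_sub, LinearMap.sub_apply, sub_eq_zero] at h1
      rw [map_sub, hωi, h1, sub_self]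
    have hv1 := hfixv a (fun u => by rw [hW]; exact Submodule.mem_sup_left ⟨u, rfl⟩)
    have hv2 := hfixv b (fun u => by rw [hW]; exact Submodule.mem_sup_right ⟨u, rfl⟩)
    obtain ⟨y, rfl⟩ := D.surj v
    rw [hL, eq_comm, D.cls_eq] at hv1 hv2
    have hc1 : ∀ g : H, (y : H)⁻¹ * (g * y * g⁻¹) ∈ Subgroup.zpowers z → g * y * g⁻¹ * (y : H)⁻¹ ∈ Subgroup.zpowers z := by
      intro g h1
      have h2 := h.zc h1 y
      rw [mul_inv_cancel_left] at h2
      have h3 : g * y * g⁻¹ * (y : H)⁻¹ = (y : H)⁻¹ * (g * y * g⁻¹) := by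
        rw [mul_inv_eq_iff_eq_mul]
        exact h2
      rw [h3]; exact h1
    have h3 := hinf y y.2 (hc1 a hv1) (hc1 b hv2)
    have h4 : D.cls y = 0 := by
      rw [← h00, eq_comm, D.cls_eq]
      simpa using h3
    rw [h4, map_zero]
    exact Submodule.zero_mem _
  intro x hx
  have h1 : D.cls ⟨x, hx⟩ ∈ W := by rw [hWt]; trivial
  rw [hW, Submodule.mem_sup] at h1
  obtain ⟨_, ⟨v₁, rfl⟩, _, ⟨v₂, rfl⟩, h2⟩ := h1
  obtain ⟨y₁, rfl⟩ := D.surj v₁
  obtain ⟨y₂, rfl⟩ := D.surj v₂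
  have h3 : (D.cls y₁ - D.L a (D.cls y₁)) + (D.cls y₂ - D.L b (D.cls y₂)) = D.cls ⟨x, hx⟩ := h2
  rw [hL, hL, sub_eq_add_neg, sub_eq_add_neg, ← hinv, ← hinv, ← D.cls_mul, ← D.cls_mul, ← D.cls_mul, eq_comm,
    D.cls_eq] at h3
  refine ⟨y₁, y₁.2, y₂, y₂.2, ?_⟩
  have h4 : ((((y₁ * (Kc a y₁)⁻¹) * (y₂ * (Kc b y₂)⁻¹) : Q)) : H) = ⁅(y₁ : H), a⁆ * ⁅(y₂ : H), b⁆ := by
    show (y₁ * (a * y₁ * a⁻¹)⁻¹) * (y₂ * (b * y₂ * b⁻¹)⁻¹) = ⁅(y₁ : H), a⁆ * ⁅(y₂ : H), b⁆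
    simp only [commutatorElement_def]
    group
  rw [h4] at h3
  exact h3

/-- `a` without fixed vector -/
theorem XS.cov_of_left (h : XS p Q z) [Finite Q] {a : H} (b : H)
    (hfix : ∀ x ∈ Q, a * x * a⁻¹ * x⁻¹ ∈ Subgroup.zpowers z → x ∈ Subgroup.zpowers z) :
    Cov a b Q (Subgroup.zpowers z) :=
  h.cov_of_inf (fun x hx h1 _ => hfix x hx h1)

omit hp in
/-- only the coset matters -/
theorem fixX_mul (h : XS p Q z) {y : H} (hy : y ∈ Q) (a : H) : FixX Q z (y * a) = FixX Q z a := by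
  unfold FixX
  congr 1
  funext x
  apply propext
  have h1 := h.comm y hy _ (h.conj_mem x.2 a)
  have e : y * a * x * (y * a)⁻¹ * (x : H)⁻¹ = (y * (a * x * a⁻¹) * y⁻¹ * (a * x * a⁻¹)⁻¹) * (a * x * a⁻¹ * (x : H)⁻¹) := by
    group
  rw [e]
  exact Subgroup.mul_mem_cancel_left _ h1

theorem card_fixX_le (ho : orderOf z = p) {a : H}
    (hfix : ∀ x ∈ Q, a * x * a⁻¹ * x⁻¹ ∈ Subgroup.zpowers z → x ∈ Subgroup.zpowers z) :
    Nat.card (FixX Q z a) ≤ p := by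
  have h0 : Finite (Subgroup.zpowers z) := by
    apply Nat.finite_of_card_ne_zero
    rw [Nat.card_zpowers, ho]
    exact hp.out.ne_zero
  have h1 : Nat.card (FixX Q z a) ≤ Nat.card (Subgroup.zpowers z) := by
    refine Nat.card_le_card_of_injective
      (fun x : FixX Q z a => (⟨x.1, hfix x.1 x.1.2 x.2⟩ : Subgroup.zpowers z)) ?_
    intro x y hxy
    have h2 : ((x.1 : Q) : H) = ((y.1 : Q) : H) := congrArg (fun w : Subgroup.zpowers z => (w : H)) hxy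
    exact Subtype.ext (Subtype.ext h2)
  rwa [Nat.card_zpowers, ho] at h1

omit hp in
theorem XS.pow_sq (h : XS p Q z) {x : H} (hx : x ∈ Q) : x ^ (p ^ 2) = 1 := by
  obtain ⟨n, hn⟩ := h.pow x hx
  have hn' : z ^ n = x ^ p := hn
  rw [pow_two, pow_mul, ← hn', ← zpow_natCast, ← zpow_mul, mul_comm, zpow_mul, zpow_natCast, ← h.ord,
    pow_orderOf_eq_one, one_zpow]

omit hp in
/-- lifting both factors -/
theorem XS.exists_lift₂ {K : Type*} [Group K] (f : H →* K) (h : XS p f.ker z) {n : ℕ} (hn : p ∣ n)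
    {a b g : H} (hcov : Cov a b f.ker (Subgroup.zpowers z)) (hg : f g = f a * f b)
    (ha : (orderOf (f a)).Coprime n) (hb : (orderOf (f b)).Coprime n) :
    ∃ y ∈ f.ker, ∃ t ∈ f.ker, ∃ x ∈ f.ker, (orderOf (a * y)).Coprime n ∧ (orderOf (b * t)).Coprime n ∧
      (a * y) * (b * t) * x = g ∧ Cov (a * y) (b * t) f.ker (Subgroup.zpowers z) ∧
      FixX f.ker z (a * y) = FixX f.ker z a ∧ FixX f.ker z (b * t) = FixX f.ker z b ∧
      FixX f.ker z (a * y * (b * t)) = FixX f.ker z (a * b) := by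
  have hzn := h.normal_zpowers
  have hex : ∀ x ∈ f.ker, ∃ k : ℕ, x ^ n ^ k = 1 := by
    intro x hx
    refine ⟨2, ?_⟩
    obtain ⟨m, rfl⟩ := hn
    rw [mul_pow, pow_mul, h.pow_sq hx, one_pow]
  obtain ⟨y, hy, hay⟩ := exists_lift f rfl hex ha
  obtain ⟨t, ht, hbt⟩ := exists_lift f rfl hex hb
  have e1 : a * y = (a * y * a⁻¹) * a := by group
  have e2 : b * t = (b * t * b⁻¹) * b := by group
  have m1 := h.conj_mem hy a
  have m2 := h.conj_mem ht b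
  have m3 : (a * y * a⁻¹) * (a * (b * t * b⁻¹) * a⁻¹) ∈ f.ker := f.ker.mul_mem m1 (h.conj_mem m2 a)
  have e3 : (a * y) * (b * t) = ((a * y * a⁻¹) * (a * (b * t * b⁻¹) * a⁻¹)) * (a * b) := by group
  have hm : (a * y * (b * t))⁻¹ * g ∈ f.ker := by
    rw [MonoidHom.mem_ker] at hy ht ⊢
    rw [map_mul, map_inv, map_mul, map_mul, map_mul, hy, ht, hg, mul_one, mul_one, inv_mul_cancel]
  have hcm : ∀ y ∈ f.ker, ∀ x ∈ f.ker, ⁅x, y⁆ ∈ Subgroup.zpowers z := fun y hy x hx => by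
    rw [commutatorElement_def]; exact h.comm x hx y hy
  refine ⟨y, hy, t, ht, _, hm, hay, hbt, mul_inv_cancel_left _ _, hcov.congr (hcm y hy) (hcm t ht), ?_, ?_, ?_⟩
  · rw [e1, fixX_mul h m1]
  · rw [e2, fixX_mul h m2]
  · rw [e3, fixX_mul h m3]

/-- **Lifting products of two elements of order prime to `n` through an extraspecial kernel.** -/
theorem Pr.of_xs {K : Type*} [Group K] (hp2 : p ≠ 2) (f : H →* K) (h : XS p f.ker z) [Finite f.ker] {n : ℕ}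
    (hn : p ∣ n) {a b g : H} (hcov : Cov a b f.ker (Subgroup.zpowers z))
    (hle : Nat.card (FixX f.ker z a) * Nat.card (FixX f.ker z b) * Nat.card (FixX f.ker z (a * b)) ≤
      Nat.card f.ker) (hg : f g = f a * f b)
    (ha : (orderOf (f a)).Coprime n) (hb : (orderOf (f b)).Coprime n) : Pr n g := by
  obtain ⟨y, -, t, -, x, hx, h1, h2, h3, h4, h5, h6, h7⟩ := h.exists_lift₂ f hn hcov hg ha hb
  obtain ⟨u, -, w, -, e⟩ := h.prod_step hp2 h4 hx (by rw [h5, h6, h7]; exact hle)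
  rw [h3] at e
  refine ⟨u * (a * y) * u⁻¹, w * (b * t) * w⁻¹, e.symm, ?_, ?_⟩
  · rw [show u * (a * y) * u⁻¹ = MulAut.conj u (a * y) from rfl, MulEquiv.orderOf_eq]; exact h1
  · rw [show w * (b * t) * w⁻¹ = MulAut.conj w (b * t) from rfl, MulEquiv.orderOf_eq]; exact h2

omit hp in
/-- **The same without numerical condition if `g` is conjugate to `g z`.** -/
theorem Pr.of_xs_conj {K : Type*} [Group K] (f : H →* K) (h : XS p f.ker z) {n : ℕ}
    (hn : p ∣ n) {a b g : H} (hcov : Cov a b f.ker (Subgroup.zpowers z))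
    (hyg : ∃ y ∈ f.ker, y * g * y⁻¹ = g * z) (hg : f g = f a * f b)
    (ha : (orderOf (f a)).Coprime n) (hb : (orderOf (f b)).Coprime n) : Pr n g := by
  obtain ⟨y, -, t, -, x, hx, h1, h2, h3, h4, -⟩ := h.exists_lift₂ f hn hcov hg ha hb
  obtain ⟨y', hy', hyg⟩ := hyg
  obtain ⟨u, -, w, -, e⟩ := h.prod_conj h4 hx hy' (by rw [h3]; exact hyg)
  rw [h3] at e
  refine ⟨u * (a * y) * u⁻¹, w * (b * t) * w⁻¹, e.symm, ?_, ?_⟩
  · rw [show u * (a * y) * u⁻¹ = MulAut.conj u (a * y) from rfl, MulEquiv.orderOf_eq]; exact h1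
  · rw [show w * (b * t) * w⁻¹ = MulAut.conj w (b * t) from rfl, MulEquiv.orderOf_eq]; exact h2

omit hp in
/-- a noncentral element of `Q` is conjugate to its product with `z` -/
theorem XS.exists_conj_z [hp : Fact p.Prime] (h : XS p Q z) {q : H} (hq : q ∈ Q) (hne : q ∉ Subgroup.zpowers z) :
    ∃ y ∈ Q, y * q * y⁻¹ = q * z := by
  have : ∃ y ∈ Q, ¬ (q * y = y * q) := by
    by_contra hno
    push Not at hno
    exact hne (h.nd q hq hno)
  obtain ⟨y, hy, hyq⟩ := this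
  obtain ⟨k, hk⟩ := exists_ez h.ord (h.comm y hy q hq)
  have hk0 : k ≠ 0 := by
    rintro rfl
    rw [ez_zero] at hk
    apply hyq
    have h1 : y * q * y⁻¹ = q := mul_inv_eq_one.1 hk.symm
    rw [mul_inv_eq_iff_eq_mul] at h1
    exact h1.symm
  -- a power of `y`
  have key : ∀ m : ℕ, y ^ m * q * (y ^ m)⁻¹ = q * ez p z (m * k) := by
    intro m
    induction m with
    | zero => simp [ez_zero]
    | succ m ih =>
      have h1 : y * q * y⁻¹ = q * ez p z k := by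
        rw [ez_comm h.central, hk]
        group
      calc y ^ (m + 1) * q * (y ^ (m + 1))⁻¹ = y * (y ^ m * q * (y ^ m)⁻¹) * y⁻¹ := by rw [pow_succ']; group
        _ = (y * q * y⁻¹) * (y * ez p z (m * k) * y⁻¹) := by rw [ih]; group
        _ = (y * q * y⁻¹) * ez p z (m * k) := by rw [ez_comm h.central]; group
        _ = q * ez p z k * ez p z (m * k) := by rw [h1]
        _ = q * ez p z ((m + 1 : ℕ) * k) := by
          rw [mul_assoc, ← ez_add h.ord]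
          congr 2
          push_cast
          ring
  refine ⟨y ^ (k⁻¹).val, Q.pow_mem hy _, ?_⟩
  rw [key, ZMod.natCast_val, ZMod.cast_id, inv_mul_cancel₀ hk0, ez_one h.ord]

/-- **The noncentral elements of `Q`.** -/
theorem Pr.of_xs_mem (h : XS p Q z) [Finite Q] {n : ℕ} {a : H} (hord : (orderOf a).Coprime n)
    (hfix : ∀ x ∈ Q, a * x * a⁻¹ * x⁻¹ ∈ Subgroup.zpowers z → x ∈ Subgroup.zpowers z)
    {q : H} (hq : q ∈ Q) (hne : q ∉ Subgroup.zpowers z) : Pr n q := by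
  obtain ⟨y, hy, hyq⟩ := h.exists_conj_z hq hne
  obtain ⟨u, -, w, -, e⟩ := h.prod_conj (h.cov_of_left a⁻¹ hfix) hq hy (by
    rw [mul_inv_cancel, one_mul]; exact hyq)
  rw [mul_inv_cancel, one_mul] at e
  refine ⟨u * a * u⁻¹, w * a⁻¹ * w⁻¹, e.symm, ?_, ?_⟩
  · rw [show u * a * u⁻¹ = MulAut.conj u a from rfl, MulEquiv.orderOf_eq]; exact hord
  · rw [show w * a⁻¹ * w⁻¹ = MulAut.conj w a⁻¹ from rfl, MulEquiv.orderOf_eq, orderOf_inv]; exact hord

end Main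

end Cfsg.Agent.H323.Pw
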